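import Cfsg.Agent.H92.NE.E8A
import Cfsg.Agent.H931.NE.E8Val
import Cfsg.Agent.H26.XZ.Gal

/-!
# E8, `q` of order 3 or 6 modulo `p`: the number of the members of `X0` which are not rational (S4791 + S4927, helper92)

`nr36` : `(p - 1) / 6 ≤ nr p M S`, `p ≥ 19`.
-/

set_option autoImplicit false
set_option linter.unusedSectionVars false
set_option maxRecDepth 10000

namespace Cfsg.Agent.H92.NE.E8

open Cfsg Cfsg.Lie Cfsg.Lie.ChevalleyDatum
open Cfsg.Agent.Nodes.RGDChev Cfsg.Agent.H129.WData Cfsg.Agent.H994.KE.E8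
open Cfsg.Agent.H603.AP Cfsg.Agent.H92.NE Cfsg.Agent.H508.XR

universe u v

theorem Pol_cast {p : ℕ} {A : Type u} [Group A] {a b : ℕ} (h : a = b) {f : LL p A → ZMod p} (hf : f ∈ Pol p A a) :
    f ∈ Pol p A b := h ▸ hf

/-- the power sums of helper931 -/
theorem S6_eq {R : Type*} [CommRing R] (m : ℕ) (x : Fin 8 → ℤ) (s : R) : S6 m x s = Cfsg.Agent.H931.NE.S6 s m x := by
  unfold S6 Cfsg.Agent.H931.NE.S6
  refine Finset.sum_congr rfl fun r _ => ?_
  have h1 : (2 : ℤ) • x - Cfsg.Agent.H931.NE.ap W6 x = fun m => 2 * x m - ap W6 x m := by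
    funext m
    rw [Pi.sub_apply, Pi.smul_apply, smul_eq_mul]
    rfl
  have h2 : (2 : ℤ) • Cfsg.Agent.H931.NE.ap W6 x - x = fun m => 2 * ap W6 x m - x m := by
    funext m
    rw [Pi.sub_apply, Pi.smul_apply, smul_eq_mul]
    rfl
  rw [h1, h2]
  rfl

theorem intCast_ne {p : ℕ} {z : ℤ} (h : ¬ p ∣ z.natAbs) : (z : ZMod p) ≠ 0 := by
  intro h1
  rw [ZMod.intCast_zmod_eq_zero_iff_dvd] at h1
  exact h (Int.natCast_dvd.1 h1)

/-- `p` does not divide a product of powers of small numbers -/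
theorem not_dvd_prod {p : ℕ} (hp : p.Prime) (L : List (ℕ × ℕ)) (hL : ∀ x ∈ L, 0 < x.1 ∧ x.1 < p) :
    ¬ p ∣ (L.map fun x => x.1 ^ x.2).prod := by
  intro h
  obtain ⟨a, ha, hpa⟩ := (Prime.dvd_prod_iff hp.prime).1 h
  obtain ⟨x, hx, rfl⟩ := List.mem_map.1 ha
  have h1 := Nat.le_of_dvd (hL x hx).1 (hp.dvd_of_dvd_pow hpa)
  have h2 := (hL x hx).2
  omega

theorem f12_ne {p : ℕ} (hp : p.Prime) (h19 : 19 ≤ p) : ((3306744 : ℤ) : ZMod p) ≠ 0 := by
  refine intCast_ne ?_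
  have h1 : (3306744 : ℤ).natAbs = (([(2, 3), (3, 10), (7, 1)] : List (ℕ × ℕ)).map fun x => x.1 ^ x.2).prod := by
    decide +kernel
  rw [h1]
  refine not_dvd_prod hp _ fun x hx => ?_
  simp only [List.mem_cons, List.not_mem_nil, or_false] at hx
  rcases hx with rfl | rfl | rfl <;> constructor <;> simp <;> omega

theorem f18_ne {p : ℕ} (hp : p.Prime) (h19 : 19 ≤ p) : ((2321334288 : ℤ) : ZMod p) ≠ 0 := by
  refine intCast_ne ?_
  have h1 : (2321334288 : ℤ).natAbs =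
      (([(2, 4), (3, 13), (7, 1), (13, 1)] : List (ℕ × ℕ)).map fun x => x.1 ^ x.2).prod := by
    decide +kernel
  rw [h1]
  refine not_dvd_prod hp _ fun x hx => ?_
  simp only [List.mem_cons, List.not_mem_nil, or_false] at hx
  rcases hx with rfl | rfl | rfl | rfl <;> constructor <;> simp <;> omega

/-- **One orbit of length `(p - 1) / 6`.** -/
theorem nr36 {p : ℕ} [hpp : Fact p.Prime] {M : Ideal AlgInt} (hM : IsPModular p M) {F : Type u} [Field F] [Fintype F]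
    {S : Type v} [Group S] [Finite S] (i : S ≃* ↥(chevE8.group F)) (h19 : 19 ≤ p) (hpF : (p : F) ≠ 0)
    (hord : orderOf (Fintype.card F : ZMod p) = 3 ∨ orderOf (Fintype.card F : ZMod p) = 6) :
    (p - 1) / 6 ≤ nr p M S := by
  obtain ⟨P, L, s, hs, hab, hdvd, hform⟩ := forms6 i (by omega) hpF hord
  -- `p ≡ 1` modulo 6
  have h3 : 3 ∣ p - 1 := by
    have hF0 : (Fintype.card F : ZMod p) ≠ 0 := by
      intro h
      rw [h] at hord
      have h1 : orderOf (0 : ZMod p) = 0 := orderOf_zero (ZMod p)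
      omega
    have h1 := ZMod.orderOf_dvd_card_sub_one hF0
    rcases hord with h | h
    · rw [h] at h1
      exact h1
    · rw [h] at h1
      exact (by norm_num : 3 ∣ 6).trans h1
  have h2 : p % 2 = 1 := (hpp.out.eq_two_or_odd).resolve_left (by omega)
  obtain ⟨n, hn⟩ : ∃ n, p = 6 * n + 7 := ⟨(p - 7) / 6, by omega⟩
  obtain ⟨f12, h12, w12, v12⟩ := hform 12
  obtain ⟨f18, h18, w18, v18⟩ := hform 18
  have e12 : f12 (L X0) ≠ 0 := by
    rw [v12, S6_eq]
    exact fun h => f12_ne hpp.out h19 ((Cfsg.Agent.H931.NE.S6_12_x0 hs).symm.trans h)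
  have e18 : f18 (L X0) ≠ 0 := by
    rw [v18, S6_eq]
    exact fun h => f18_ne hpp.out h19 ((Cfsg.Agent.H931.NE.S6_18_x0 hs).symm.trans h)
  obtain ⟨a, b, hab'⟩ : ∃ a b : ℕ, 12 * a + 18 * b = p - 7 := by
    rcases Nat.even_or_odd n with ⟨m, hm⟩ | ⟨m, hm⟩
    · exact ⟨m, 0, by omega⟩
    · exact ⟨m - 1, 1, by omega⟩
  have hgcd : Nat.gcd (p - 7) (p - 1) = 6 := by
    have h1 : p - 7 = 6 * n := by omega
    have h4 : p - 1 = 6 * (n + 1) := by omega
    rw [h1, h4, Nat.gcd_mul_left, Nat.gcd_self_add_right, Nat.gcd_one_right, mul_one]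
  have hPol : f12 ^ a * f18 ^ b ∈ Pol p P (p - 7) :=
    Pol_cast (by omega) (Pol_mul (Pol_pow h12 a) (Pol_pow h18 b))
  have h0 : f12 ^ a * f18 ^ b ≠ 0 := by
    intro h
    have h1 := congrFun h (L X0)
    rw [Pi.mul_apply, Pi.pow_apply, Pi.pow_apply, Pi.zero_apply] at h1
    rcases mul_eq_zero.1 h1 with h4 | h4
    · exact pow_ne_zero a e12 h4
    · exact pow_ne_zero b e18 h4
  have key := Cfsg.Agent.H26.XZ.gal_nr_one hM hdvd hab (D := p - 7) (by omega) (by omega) h0 hPol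
    (WInv.mul' (w12.pow a) (w18.pow b))
  rwa [hgcd] at key

end Cfsg.Agent.H92.NE.E8
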