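import Cfsg.Agent.H994.KE.EData

/-!
# E8, `q` of order 3 or 6 modulo `p`: the power sums (S4791 + S4927, helper92)

`S6 m x s = ∑_r (a_r(x) + s b_r(x)) ^ m` over the 240 roots, `a_r(x) = (2 x - w x, r)`, `b_r(x) = (2 w x - x, r)`, `w = w6`,
`w ^ 2 = w - 1`.
-/

set_option autoImplicit false
set_option linter.unusedSectionVars false

namespace Cfsg.Agent.H92.NE.E8

open Cfsg Cfsg.Lie Cfsg.Lie.ChevalleyDatum
open Cfsg.Agent.Nodes.RGDChev Cfsg.Agent.H129.WData Cfsg.Agent.H994.KE.E8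

/-- the form -/
def bq (x y : Fin 8 → ℤ) : ℤ := ∑ i, ∑ j, x i * Am i j * y j

/-- a matrix on the lattice -/
def ap (W : Mat 8) (x : Fin 8 → ℤ) : Fin 8 → ℤ := fun m => ∑ j, x j * W j m

def a6 (x : Fin 8 → ℤ) (r : Fin chevE8.nroots) : ℤ := bq (fun m => 2 * x m - ap W6 x m) (vec chevE8 8 r)

def b6 (x : Fin 8 → ℤ) (r : Fin chevE8.nroots) : ℤ := bq (fun m => 2 * ap W6 x m - x m) (vec chevE8 8 r)

/-- the power sum -/
def S6 {R : Type*} [CommRing R] (m : ℕ) (x : Fin 8 → ℤ) (s : R) : R :=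
  ∑ r : Fin chevE8.nroots, ((a6 x r : R) + s * (b6 x r : R)) ^ m

/-- the three points -/
def X0 : Fin 8 → ℤ := ![1, 0, 0, 0, 0, 0, 0, 0]
def X1 : Fin 8 → ℤ := ![-1, -1, -1, -1, -1, 0, 1, 0]
def X2 : Fin 8 → ℤ := ![-1, -1, -1, -1, -1, 0, -1, 1]

end Cfsg.Agent.H92.NE.E8
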