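import Cfsg.Agent.H92.NE.Fam
import Cfsg.Agent.H92.NE.E8Def
import Cfsg.Agent.H994.KE.EMain
import Cfsg.Agent.S1093

/-!
# E8, `q` of order 3 or 6 modulo `p`: the invariant forms (S4791 + S4927, helper92)

`forms6` : an abelian Sylow `p`-subgroup `P` and points `L x : LL p P`, an invariant form of every degree `m` with the value
`S6 m x s` at `L x`, `s ^ 2 = s - 1`.
-/

set_option autoImplicit false
set_option linter.unusedSectionVars false
set_option maxRecDepth 10000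

namespace Cfsg.Agent.H92.NE.E8

open CoxeterSystem Cfsg Cfsg.Lie Cfsg.Lie.ChevalleyDatum
open Cfsg.Agent.ChevalleyStructure Cfsg.Agent.ChevalleyStructure.Elts Cfsg.Agent.ChevalleyStructure.CoxeterGeom
  Cfsg.Agent.ChevalleyStructure.CoxeterGeomTypes Cfsg.Agent.ChevalleyStructure.NPerm
open Cfsg.Agent.Tits.Roots Cfsg.Agent.Tits.Core Cfsg.Agent.Nodes Cfsg.Agent.Nodes.Reps Cfsg.Agent.Nodes.BNOf
  Cfsg.Agent.Nodes.RGDChev Cfsg.Agent.Nodes.Bruhat
open Cfsg.Agent.BpExc.Fr Cfsg.Agent.BpExc.LangFr Cfsg.Agent.BpExc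
open Cfsg.Agent.H129.TorusChar Cfsg.Agent.H129.WData Cfsg.Agent.H210.EL
open Cfsg.Agent.H603.AP Cfsg.Agent.H92.NE Cfsg.Agent.H994.KE Cfsg.Agent.H994.KE.E8

universe u v

/-! ### the values of the projection -/

section pj

variable {l p : ℕ} {T : (Fin l → ℤ) → (Fin l → ℤ)}

theorem it2 (hT : ∀ x, T (T x) = T x - x) (x : Fin l → ℤ) : T^[2] x = T x - x := hT x

theorem it3 (hT : ∀ x, T (T x) = T x - x) (x : Fin l → ℤ) : T^[3] x = -x := by
  have h1 : T^[3] x = T (T (T x)) := rfl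
  rw [h1, hT (T x), hT]
  abel

theorem it6 (hT : ∀ x, T (T x) = T x - x) (x : Fin l → ℤ) : T^[6] x = x := by
  have h : T^[6] x = T^[3] (T^[3] x) := by rw [← Function.iterate_add_apply]
  rw [h, it3 hT, it3 hT, neg_neg]

theorem it3' (hT : ∀ x, T (T x) = T x - x) (x : Fin l → ℤ) : (fun x => T (T x))^[3] x = x := by
  have h : (fun x => T (T x))^[3] x = T^[6] x := rfl
  rw [h, it6 hT]

theorem pj6 (hT : ∀ x, T (T x) = T x - x) {s : ZMod p} (hs : s ^ 2 = s - 1) (ψ : (Fin l → ℤ) →+ ℤ) (x : Fin l → ℤ) :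
    pj p 6 s T ψ x = 2 * ((ψ (2 • x - T x) : ZMod p) + s * (ψ (2 • T x - x) : ZMod p)) := by
  have h2 := it2 hT x
  have h3 := it3 hT x
  have h4 : T^[4] x = -T x := by
    have h : T^[4] x = T^[3] (T x) := rfl
    rw [h, it3 hT]
  have h5 : T^[5] x = x - T x := by
    have h : T^[5] x = T^[3] (T^[2] x) := rfl
    rw [h, it3 hT, h2]
    abel
  unfold pj
  simp only [Finset.sum_range_succ, Finset.sum_range_zero]
  rw [h2, h3, h4, h5]
  have e0 : T^[0] x = x := rfl
  have e1 : T^[1] x = T x := rfl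
  rw [e0, e1]
  simp only [map_sub, map_neg, map_nsmul]
  push_cast
  simp only [nsmul_eq_mul]
  push_cast
  linear_combination ((ψ x : ZMod p) * (s ^ 3 + s ^ 2 - s - 3) + (ψ (T x) : ZMod p) * (-s ^ 3 - 2 * s ^ 2 - s + 2)) * hs

theorem pj3 (hT : ∀ x, T (T x) = T x - x) {s t : ZMod p} (hs : s ^ 2 = s - 1) (ht : t = s ^ 2) (ψ : (Fin l → ℤ) →+ ℤ)
    (x : Fin l → ℤ) :
    pj p 3 t (fun x => T (T x)) ψ x = (ψ (2 • x - T x) : ZMod p) + s * (ψ (2 • T x - x) : ZMod p) := by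
  have h4 : T (T (T (T x))) = -T x := by
    have h := it3 hT (T x)
    exact h
  unfold pj
  simp only [Finset.sum_range_succ, Finset.sum_range_zero]
  have e0 : (fun x => T (T x))^[0] x = x := rfl
  have e1 : (fun x => T (T x))^[1] x = T x - x := hT x
  have e2 : (fun x => T (T x))^[2] x = -T x := h4
  rw [e0, e1, e2, ht]
  simp only [map_sub, map_neg, map_nsmul]
  push_cast
  simp only [nsmul_eq_mul]
  push_cast
  linear_combination (-(ψ x : ZMod p) + (ψ (T x) : ZMod p) * (-s ^ 2 - s + 1)) * hs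

end pj

/-! ### the Weyl group element -/

theorem typeE8 : IsType chevE8 8 CoxeterMatrix.E₈ := by simp [IsType, typeList]

theorem not_dvd_W {p : ℕ} (hp : p.Prime) (h11 : 11 ≤ p) : ¬ p ∣ Nat.card CoxeterMatrix.E₈.Group := by
  have h1 : Nat.card CoxeterMatrix.E₈.Group = 696729600 :=
    Cfsg.Agent.S1093.result (⟨8, CoxeterMatrix.E₈⟩, 696729600) (by simp)
  rw [h1, show 696729600 = 2 ^ 14 * 3 ^ 5 * 5 ^ 2 * 7 by norm_num]
  intro h
  rcases (Nat.Prime.dvd_mul hp).1 h with h | h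
  · rcases (Nat.Prime.dvd_mul hp).1 h with h | h
    · rcases (Nat.Prime.dvd_mul hp).1 h with h | h
      · have := Nat.le_of_dvd (by norm_num) (hp.dvd_of_dvd_pow h)
        omega
      · have := Nat.le_of_dvd (by norm_num) (hp.dvd_of_dvd_pow h)
        omega
    · have := Nat.le_of_dvd (by norm_num) (hp.dvd_of_dvd_pow h)
      omega
  · have := Nat.le_of_dvd (by norm_num) h
    omega

/-- the action of `w6` -/
noncomputable abbrev rp (x : Fin 8 → ℤ) : Fin 8 → ℤ :=
  rep CoxeterMatrix.E₈.toCoxeterSystem typeE8.isCartan (wd CoxeterMatrix.E₈ cw6) x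

theorem rp_sr (j : Fin 8) : rp (sr j) = W6 j := chain_rep typeE8 CoxeterMatrix.E₈.toCoxeterSystem hA cw6_ok j

theorem rp_eq (x : Fin 8 → ℤ) : rp x = ap W6 x := by
  funext m
  have h1 := IsMC.eq_sum_sr x
  conv_lhs => rw [h1]
  rw [rp, map_sum, Finset.sum_apply]
  refine Finset.sum_congr rfl fun j _ => ?_
  rw [map_zsmul, Pi.smul_apply, smul_eq_mul]
  have h2 := rp_sr j
  rw [rp] at h2
  rw [h2]

theorem W6_sq : ∀ j m, ∑ n, W6 j n * W6 n m = W6 j m - if j = m then 1 else 0 := by decide +kernel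

theorem rp_sq (x : Fin 8 → ℤ) : rp (rp x) = rp x - x := by
  rw [rp_eq, rp_eq]
  funext m
  rw [Pi.sub_apply]
  unfold ap
  have h1 : ∀ n, (∑ j, x j * W6 j n) * W6 n m = ∑ j, x j * (W6 j n * W6 n m) := by
    intro n
    rw [Finset.sum_mul]
    exact Finset.sum_congr rfl fun j _ => by ring
  rw [Finset.sum_congr rfl fun n _ => h1 n, Finset.sum_comm]
  have h2 : ∀ j, ∑ n, x j * (W6 j n * W6 n m) = x j * W6 j m - x j * (if j = m then 1 else 0) := by
    intro j
    rw [← Finset.mul_sum, W6_sq, mul_sub]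
  rw [Finset.sum_congr rfl fun j _ => h2 j, Finset.sum_sub_distrib]
  congr 1
  simp

theorem formOK : FormOK chevE8 8 Am := by decide +kernel

theorem Am_diag : ∀ i, Am i i = 2 := by decide +kernel

/-- the product of a root and its image -/
theorem bl_rp {a : Fin 8 → ℤ} (ha : IsRoot CoxeterMatrix.E₈.toCoxeterSystem typeE8.isCartan a) :
    bl Am a (rp a) = 1 := by
  have h1 : bl Am a a = 2 := bl_root typeE8 formOK Am_diag ha
  have h2 : bl Am (rp a) (rp a) = 2 := by rw [rp, bl_rep typeE8 formOK, h1]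
  have h3 : bl Am (rp (rp a)) (rp (rp a)) = 2 := by rw [rp, bl_rep typeE8 formOK]; exact h2
  rw [rp_sq, map_sub, bl_sub_left formOK.1, bl_sub_left formOK.1, h2, h1, bl_comm formOK.1 a (rp a)] at h3
  omega

theorem two_smul_sub (x y : Fin 8 → ℤ) : (2 • x - y : Fin 8 → ℤ) = fun m => 2 * x m - y m := by
  funext m
  rw [Pi.sub_apply, Pi.smul_apply, nsmul_eq_mul]
  rfl

/-- the values of the family of the roots -/
theorem fam_val {p : ℕ} (s : ZMod p) (x : Fin 8 → ℤ) (r : Fin chevE8.nroots) :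
    (bl Am (vec chevE8 8 r) (2 • x - rp x) : ZMod p) + s * (bl Am (vec chevE8 8 r) (2 • rp x - x) : ZMod p) =
      (a6 x r : ZMod p) + s * (b6 x r : ZMod p) := by
  rw [rp_eq, two_smul_sub, two_smul_sub]
  rfl

/-- a form with the value `c ^ m S6` gives one with the value `S6` -/
theorem scale {p : ℕ} [Fact p.Prime] {G : Type v} [Group G] {P : Sylow p G} {L : (Fin 8 → ℤ) → LL p P} {s c : ZMod p}
    (hc : c ≠ 0) {m : ℕ}
    (h : ∃ f ∈ Pol p P m, WInv P f ∧ ∀ x, f (L x) = ∑ r : Fin chevE8.nroots, (c * ((a6 x r : ZMod p) + s * (b6 x r : ZMod p))) ^ m) :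
    ∃ f ∈ Pol p P m, WInv P f ∧ ∀ x, f (L x) = S6 m x s := by
  obtain ⟨f, hf, hW, hx⟩ := h
  refine ⟨(c ^ m)⁻¹ • f, Submodule.smul_mem _ _ hf, WInv.smul' hW _, fun x => ?_⟩
  rw [Pi.smul_apply, hx, smul_eq_mul]
  unfold S6
  rw [Finset.mul_sum]
  refine Finset.sum_congr rfl fun r _ => ?_
  rw [mul_pow, ← mul_assoc, inv_mul_cancel₀ (pow_ne_zero _ hc), one_mul]

/-- **The forms, `q` of order 3 or 6.** -/
theorem forms6 {F : Type u} [Field F] [Fintype F] {S : Type v} [Group S] [Finite S] (i : S ≃* ↥(chevE8.group F))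
    {p : ℕ} [hpp : Fact p.Prime] (h11 : 11 ≤ p) (hpF : (p : F) ≠ 0)
    (hord : orderOf (Fintype.card F : ZMod p) = 3 ∨ orderOf (Fintype.card F : ZMod p) = 6) :
    ∃ (P : Sylow p S) (L : (Fin 8 → ℤ) → LL p P) (s : ZMod p), s ^ 2 = s - 1 ∧ (∀ x ∈ P, ∀ y ∈ P, x * y = y * x) ∧
      p ∣ Nat.card S ∧ ∀ m, ∃ f ∈ Pol p P m, WInv P f ∧ ∀ x, f (L x) = S6 m x s := by
  have hW := not_dvd_W hpp.out h11
  have h2p := natCast_ne (p := p) (n := 2) (by norm_num) (by omega)
  have h3p := natCast_ne (p := p) (n := 3) (by norm_num) (by omega)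
  have h6p := natCast_ne (p := p) (n := 6) (by norm_num) (by omega)
  push_cast at h2p h3p h6p
  have hfam : ∀ v : CoxeterMatrix.E₈.Group, ∃ τ : Equiv.Perm (Fin chevE8.nroots), ∀ j x,
      bl Am (vec chevE8 8 (τ j)) (rep CoxeterMatrix.E₈.toCoxeterSystem typeE8.isCartan v x) =
        bl Am (vec chevE8 8 j) x := root_fam typeE8 formOK
  rcases hord with hord | hord
  · -- order 3
    set q : ZMod p := (Fintype.card F : ZMod p) with hq
    obtain ⟨-, hq2⟩ := sq_of_order3 hord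
    have hq3 : q ^ 3 = 1 := by rw [← hord]; exact pow_orderOf_eq_one q
    have hq1 : q ≠ 1 := fun h1 => by rw [h1, orderOf_one] at hord; omega
    have hqq : q ^ 2 + q + 1 = 0 := by
      have e1 : (q - 1) * (q ^ 2 + q + 1) = 0 := by linear_combination hq3
      exact (mul_eq_zero.1 e1).resolve_left (sub_ne_zero.2 hq1)
    have hs : (-q) ^ 2 = -q - 1 := by linear_combination hqq
    have hqs : q * (-q) ^ 2 = 1 := by linear_combination hq3
    have hsd : ((-q) ^ 2) ^ 3 = 1 := by linear_combination (q ^ 3 + 1) * hq3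
    have hw : ∀ x, (fun x => rep CoxeterMatrix.E₈.toCoxeterSystem typeE8.isCartan
        (wd CoxeterMatrix.E₈ cw6 * wd CoxeterMatrix.E₈ cw6) x)^[3] x = x := by
      intro x
      have h1 : (fun x => rep CoxeterMatrix.E₈.toCoxeterSystem typeE8.isCartan
        (wd CoxeterMatrix.E₈ cw6 * wd CoxeterMatrix.E₈ cw6) x) = fun x => rp (rp x) := by
        funext x
        rw [rep_mul_apply]
      rw [h1]
      exact it3' rp_sq x
    have hfun : (fun x => rep CoxeterMatrix.E₈.toCoxeterSystem typeE8.isCartan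
        (wd CoxeterMatrix.E₈ cw6 * wd CoxeterMatrix.E₈ cw6) x) = fun x => rp (rp x) := by
      funext x
      rw [rep_mul_apply]
    obtain ⟨P, L, h⟩ := forms_untw typeE8 (by norm_num) i hpF hW invC_E8 one_ne_zero (Or.inl rfl)
      (fun h => by have := Nat.le_of_dvd (by norm_num) h; omega) (wd CoxeterMatrix.E₈ cw6 * wd CoxeterMatrix.E₈ cw6)
      (d := 3) (by norm_num) hw hq3 hqs (fun a ha => by
        obtain ⟨c, hc, hc'⟩ := exists_eig hqs hsd
          (θ := repAut CoxeterMatrix.E₈.toCoxeterSystem typeE8.isCartan (wd CoxeterMatrix.E₈ cw6 * wd CoxeterMatrix.E₈ cw6))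
          hw (bl Am a)
        refine ⟨c, hc, ?_⟩
        rw [hc']
        have h1 : pj p 3 ((-q) ^ 2) (fun x => rep CoxeterMatrix.E₈.toCoxeterSystem typeE8.isCartan
          (wd CoxeterMatrix.E₈ cw6 * wd CoxeterMatrix.E₈ cw6) x) (bl Am a) a ≠ 0 := by
          rw [hfun, pj3 rp_sq hs rfl, map_sub, map_sub, map_nsmul, map_nsmul, bl_rp ha, bl_root typeE8 formOK Am_diag ha]
          norm_num
          exact h3p
        exact h1)
    refine ⟨P, L, -q, hs, h.ab, h.dvd, fun m => scale (c := 1) one_ne_zero ?_⟩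
    obtain ⟨f, hf, hfW, hfx⟩ := h.form (fun r : Fin chevE8.nroots => bl Am (vec chevE8 8 r)) (fun v _ => hfam v) m
    refine ⟨f, hf, hfW, fun x => ?_⟩
    rw [hfx, hfun]
    refine Finset.sum_congr rfl fun r _ => ?_
    rw [pj3 rp_sq hs rfl, fam_val, one_mul]
  · -- order 6
    set q : ZMod p := (Fintype.card F : ZMod p) with hq
    have hq2 := sq_of_order6 hord
    have hq6 : q ^ 6 = 1 := by rw [← hord]; exact pow_orderOf_eq_one q
    have hq0 : q ≠ 0 := ne_zero_of6 hq2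
    have hqs : q * q⁻¹ = 1 := mul_inv_cancel₀ hq0
    have hs : (q⁻¹) ^ 2 = q⁻¹ - 1 := by
      linear_combination ((q⁻¹) ^ 2) * hq2 - (q * q⁻¹ + 1 - q⁻¹) * hqs
    have hsd : (q⁻¹) ^ 6 = 1 := by rw [inv_pow, hq6, inv_one]
    have hw : ∀ x, (fun x => rep CoxeterMatrix.E₈.toCoxeterSystem typeE8.isCartan (wd CoxeterMatrix.E₈ cw6) x)^[6] x = x := by
      intro x
      exact it6 (T := rp) rp_sq x
    obtain ⟨P, L, h⟩ := forms_untw typeE8 (by norm_num) i hpF hW invC_E8 one_ne_zero (Or.inl rfl)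
      (fun h => by have := Nat.le_of_dvd (by norm_num) h; omega) (wd CoxeterMatrix.E₈ cw6)
      (d := 6) (by norm_num) hw hq6 hqs (fun a ha => by
        obtain ⟨c, hc, hc'⟩ := exists_eig hqs hsd
          (θ := repAut CoxeterMatrix.E₈.toCoxeterSystem typeE8.isCartan (wd CoxeterMatrix.E₈ cw6)) hw (bl Am a)
        refine ⟨c, hc, ?_⟩
        rw [hc']
        have h1 : pj p 6 q⁻¹ rp (bl Am a) a ≠ 0 := by
          rw [pj6 rp_sq hs, map_sub, map_sub, map_nsmul, map_nsmul, bl_rp ha, bl_root typeE8 formOK Am_diag ha]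
          norm_num
          exact h6p
        exact h1)
    refine ⟨P, L, q⁻¹, hs, h.ab, h.dvd, fun m => scale (c := 2) h2p ?_⟩
    obtain ⟨f, hf, hfW, hfx⟩ := h.form (fun r : Fin chevE8.nroots => bl Am (vec chevE8 8 r)) (fun v _ => hfam v) m
    refine ⟨f, hf, hfW, fun x => ?_⟩
    rw [hfx]
    refine Finset.sum_congr rfl fun r _ => ?_
    have h1 : pj p 6 q⁻¹ (fun x => rep CoxeterMatrix.E₈.toCoxeterSystem typeE8.isCartan (wd CoxeterMatrix.E₈ cw6) x)
      (bl Am (vec chevE8 8 r)) x = 2 * ((a6 x r : ZMod p) + q⁻¹ * (b6 x r : ZMod p)) := by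
      rw [← fam_val]
      exact pj6 rp_sq hs _ x
    rw [h1]

end Cfsg.Agent.H92.NE.E8
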