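import Cfsg.Agent.H440.TD4.Model
import Cfsg.Agent.H795.TorSub
import Cfsg.Agent.H603.AP.Rank

/-!
# The Sylow subgroups of a torus and the power sum forms (S4791 + S4927, helper92)

`σ'` a frame automorphism of Frobenius type of `D.group k` with lattice automorphism `θ`; `A` a family of `p`-elements of the
torus on which no root is trivial, fixed by `σ'`.
-/

set_option autoImplicit false
set_option linter.unusedSectionVars false

namespace Cfsg.Agent.H92.NE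

open CoxeterSystem Cfsg Cfsg.Lie Cfsg.Lie.ChevalleyDatum
open Cfsg.Agent.ChevalleyStructure Cfsg.Agent.ChevalleyStructure.Elts Cfsg.Agent.ChevalleyStructure.CoxeterGeom
  Cfsg.Agent.ChevalleyStructure.CoxeterGeomTypes Cfsg.Agent.ChevalleyStructure.NPerm
open Cfsg.Agent.Tits.Roots Cfsg.Agent.Tits.Core Cfsg.Agent.Nodes Cfsg.Agent.Nodes.Reps Cfsg.Agent.Nodes.BNOf
  Cfsg.Agent.Nodes.RGDChev Cfsg.Agent.Nodes.Bruhat
open Cfsg.Agent.KFacts.RgdField Cfsg.Agent.KFacts.RgdChevCoord Cfsg.Agent.BpExc.TorCent Cfsg.Agent.BpExc.TorChev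
open Cfsg.Agent.GpExc.Field Cfsg.Agent.BpExc.Tow Cfsg.Agent.BpExc.TowChev Cfsg.Agent.BpExc.Fr
  Cfsg.Agent.BpExc.LangFr Cfsg.Agent.H795.SetCent Cfsg.Agent.H795.Toral Cfsg.Agent.H795.Core
  Cfsg.Agent.H795.RootConn Cfsg.Agent.H795.SetTor Cfsg.Agent.H795.TorSub Cfsg.Agent.H129.TorusChar
  Cfsg.Agent.H129.TorusUntw
  Cfsg.Agent.H129.WData Cfsg.Agent.H795.Reduce Cfsg.Agent.H795.LangT Cfsg.Agent.H123.ExcZ
  Cfsg.Agent.BpExc Cfsg.Agent.H210.EL Cfsg.Agent.H440.TD4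
open Cfsg.Agent.H603.AP

universe u v

/-! ### functionals modulo `N` -/

section chn

variable {k : Type u} [Field k] {N : ℕ} [NeZero N] {l : ℕ}

theorem pow_add' {ζ : k} (hζ : ζ ^ N = 1) (a b : ZMod N) : ζ ^ (a + b).val = ζ ^ a.val * ζ ^ b.val := by
  rw [← pow_add, ZMod.val_add]
  conv_rhs => rw [← Nat.mod_add_div (a.val + b.val) N, pow_add, pow_mul ζ N, hζ, one_pow, mul_one]

theorem pow_cast' {ζ : k} (hζ : ζ ^ N = 1) (n : ℕ) (a : ZMod N) : ζ ^ ((n : ZMod N) * a).val = (ζ ^ a.val) ^ n := by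
  rw [← pow_mul, ZMod.val_mul, ZMod.val_natCast]
  have h1 : (n % N * a.val) % N = (a.val * n) % N := by
    rw [Nat.mod_mul_mod, mul_comm]
  rw [h1]
  conv_rhs => rw [← Nat.mod_add_div (a.val * n) N, pow_add, pow_mul ζ N, hζ, one_pow, mul_one]

theorem isMC_chn {ζ : k} (hζ : ζ ^ N = 1) (b : (Fin l → ℤ) →+ ZMod N) : IsMC (fun x => ζ ^ (b x).val) where
  zero := by
    show ζ ^ (b 0).val = 1
    rw [map_zero, ZMod.val_zero, pow_zero]
  add x y := by
    show ζ ^ (b (x + y)).val = _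
    rw [map_add, pow_add' hζ]

end chn

/-! ### families of torus elements without trivial roots -/

section fam

variable {D : ChevalleyDatum} {l : ℕ} {M : CoxeterMatrix (Fin l)} (hp : IsType D l M)
  {k : Type u} [Field k] [IsAlgClosed k] {r : ℕ} [hr : Fact r.Prime] [hcr : CharP k r] (hk : LocFin k)

/-- the roots -/
abbrev Rt (hp : IsType D l M) : Type := {a : Fin l → ℤ // IsRoot M.toCoxeterSystem hp.isCartan a}

include hk in
/-- an element conjugating a family without trivial roots into the torus represents an element of the Weyl group -/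
theorem rp_of_conj {s : Rt hp → ↥(D.group k)} (hs : ∀ a, s a ∈ TT D k) (hsu : ∀ a, cX hp (s a) a.1 ≠ 1)
    {c : ↥(D.group k)} (hc : ∀ a, c * s a * c⁻¹ ∈ TT D k) :
    ∃ w, Rp M.toCoxeterSystem (tow hp M.toCoxeterSystem hk r).nsys w c := by
  classical
  have hWf := finite_W hp (M.toCoxeterSystem)
  have H := tow hp M.toCoxeterSystem hk r
  have C : Coords M.toCoxeterSystem hp.isCartan (TL (Tj hp (k := k))) (nc hp k) (XL (Xj hp)) (xc hp) (ch hp) := by
    rw [TL_eq hp hk, XL_eq hp hk]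
    exact coordsL hp M.toCoxeterSystem hk r
  have hGt := GG_eq_top hp M.toCoxeterSystem hk
  have hTL := TL_eq (k := k) hp hk
  have : Finite (Rt hp) := RGD.finite_roots (cs := M.toCoxeterSystem) (h := hp.isCartan)
  obtain ⟨m, hm, w, n, hn, hns, e⟩ := exists_formZ H C (ι := Rt hp) (s := s) (t := fun a => c * s a * c⁻¹)
    (fun a => by rw [hTL]; exact hs a) (fun a => by rw [hTL]; exact hc a) (c := c)
    (by rw [hGt]; exact Subgroup.mem_top _) (fun a => by group)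
  have hSZ : SxZ M.toCoxeterSystem hp.isCartan (ch (K := k) hp) (Set.range fun a => c * s a * c⁻¹) = ∅ := by
    rw [Set.eq_empty_iff_forall_notMem]
    intro a ha
    obtain ⟨b, hb⟩ : ∃ b, b = rep M.toCoxeterSystem hp.isCartan w⁻¹ a := ⟨_, rfl⟩
    have hbr : IsRoot M.toCoxeterSystem hp.isCartan b := by rw [hb]; exact ha.1.act _
    have h1 := C.chi_rp H.nsys hn hbr (t := s ⟨b, hbr⟩) (by rw [hTL]; exact hs _)
    have h2 : n * s ⟨b, hbr⟩ * n⁻¹ = c * s ⟨b, hbr⟩ * c⁻¹ := by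
      rw [hns ⟨b, hbr⟩]
      group
    rw [h2] at h1
    have h3 : rep M.toCoxeterSystem hp.isCartan w b = a := by rw [hb, rep_apply_inv]
    rw [h3, ha.2 _ ⟨⟨b, hbr⟩, rfl⟩] at h1
    apply hsu ⟨b, hbr⟩
    rw [cX_root hp M.toCoxeterSystem (hs _) hbr]
    exact h1.symm
  have hm1 : m = 1 := by
    have h1 : m ∈ (⊥ : Subgroup ↥(D.group k)) := by
      have h2 : MMZ M.toCoxeterSystem hp.isCartan (XL (Xj hp (k := k))) (ch hp) (Set.range fun a => c * s a * c⁻¹) ≤ ⊥ := by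
        refine RGD.Sup_le fun a ha => ?_
        rw [hSZ] at ha
        exact absurd ha (Set.notMem_empty a)
      exact h2 hm
    exact (Subgroup.mem_bot).1 h1
  refine ⟨w, ?_⟩
  rw [e, hm1, one_mul]
  exact hn

include hk hr hcr in
/-- the centralizer of a family of `p`-elements without trivial roots is the torus -/
theorem mem_of_comm {p : ℕ} (hpp : p.Prime) (hW : ¬ p ∣ Nat.card M.Group) {s : Rt hp → ↥(D.group k)}
    (hs : ∀ a, s a ∈ TT D k) (hsp : ∀ a, ∃ j : ℕ, s a ^ p ^ j = 1)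
    (hsu : ∀ a, cX hp (s a) a.1 ≠ 1) {c : ↥(D.group k)} (hc : ∀ a, c * s a = s a * c) : c ∈ TT D k := by
  classical
  have hWf := finite_W hp (M.toCoxeterSystem)
  have H := tow hp M.toCoxeterSystem hk r
  have C : Coords M.toCoxeterSystem hp.isCartan (TL (Tj hp (k := k))) (nc hp k) (XL (Xj hp)) (xc hp) (ch hp) := by
    rw [TL_eq hp hk, XL_eq hp hk]
    exact coordsL hp M.toCoxeterSystem hk r
  have hA : ChAdd M.toCoxeterSystem hp.isCartan (TL (Tj hp (k := k))) (ch (K := k) hp) := by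
    rw [TL_eq hp hk]
    exact chAddL hp M.toCoxeterSystem hk r
  have hGt := GG_eq_top hp M.toCoxeterSystem hk
  have hTL := TL_eq (k := k) hp hk
  have : Finite (Rt hp) := RGD.finite_roots (cs := M.toCoxeterSystem) (h := hp.isCartan)
  obtain ⟨m, hm, t, ht, e⟩ := exists_form_MMT H C hGt hA (Z := Set.range s) (Set.finite_range s)
    (by rintro _ ⟨a, rfl⟩; rw [hTL]; exact hs a) hpp (by rintro _ ⟨a, rfl⟩; exact hsp a)
    (fun h => hW ((dvd_pow_self p two_ne_zero).trans h)) (tors_of_not_dvd hW) (c := c)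
    (by rintro _ ⟨a, rfl⟩; exact hc a)
  have hSZ : SxZ M.toCoxeterSystem hp.isCartan (ch (K := k) hp) (Set.range s) = ∅ := by
    rw [Set.eq_empty_iff_forall_notMem]
    intro a ha
    apply hsu ⟨a, ha.1⟩
    rw [cX_root hp M.toCoxeterSystem (hs _) ha.1]
    exact ha.2 _ ⟨_, rfl⟩
  have hm1 : m = 1 := by
    have h1 : m ∈ (⊥ : Subgroup ↥(D.group k)) := by
      have h2 : MMZ M.toCoxeterSystem hp.isCartan (XL (Xj hp (k := k))) (ch hp) (Set.range s) ≤ ⊥ := by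
        refine RGD.Sup_le fun a ha => ?_
        rw [hSZ] at ha
        exact absurd ha (Set.notMem_empty a)
      exact h2 hm
    exact (Subgroup.mem_bot).1 h1
  rw [e, hm1, one_mul, ← hTL]
  exact ht

variable {e : ℕ} {σ : MulAut ↥(D.group k)} {θ : (Fin l → ℤ) ≃+ (Fin l → ℤ)}

include hk in
/-- the element of the Weyl group of a fixed element commutes with the lattice automorphism -/
theorem comm_of_fixed {d : ℕ} {B : Fin l → Fin l → ℤ} (hB : InvC D l d B) (hd : d ≠ 0) (hσ : IsFrob r e σ)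
    (F : Fr M.toCoxeterSystem hp.isCartan (TT D k) (XX D l k) σ θ) {w : M.Group} {n : ↥(D.group k)}
    (hn : Rp M.toCoxeterSystem (tow hp M.toCoxeterSystem hk r).nsys w n) (hfix : σ n = n) (x : Fin l → ℤ) :
    rep M.toCoxeterSystem hp.isCartan w (θ x) = θ (rep M.toCoxeterSystem hp.isCartan w x) := by
  have hσT : ∀ s, σ s ∈ TT D k ↔ s ∈ TT D k := F.tor
  have hnT : ∀ t ∈ TT D k, n * t * n⁻¹ ∈ TT D k := fun t ht => rp_conj_mem hp hk hn ht
  refine cX_sep hp (k := k) hB hd fun t' ht' => ?_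
  obtain ⟨t, ht, rfl⟩ : ∃ t ∈ TT D k, t' = σ (n * t * n⁻¹) := by
    have h1 : σ⁻¹ t' ∈ TT D k := by rw [← hσT, MulAut.apply_inv_self]; exact ht'
    refine ⟨n⁻¹ * σ⁻¹ t' * n, ?_, ?_⟩
    · have h2 := rp_conj_mem hp hk hn.inv h1
      rwa [inv_inv] at h2
    · have h2 : n * (n⁻¹ * σ⁻¹ t' * n) * n⁻¹ = σ⁻¹ t' := by group
      rw [h2, MulAut.apply_inv_self]
  have h1 : cX hp (σ (n * t * n⁻¹)) (θ (rep M.toCoxeterSystem hp.isCartan w x)) = cX hp t x ^ r ^ e := by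
    rw [cX_sigma hp M.toCoxeterSystem hσ F (hnT t ht), cX_rp' hp hk hn ht]
  have h2 : cX hp (σ (n * t * n⁻¹)) (rep M.toCoxeterSystem hp.isCartan w (θ x)) = cX hp t x ^ r ^ e := by
    rw [map_mul, map_mul, map_inv, hfix, cX_rp' hp hk hn ((hσT t).2 ht), cX_sigma hp M.toCoxeterSystem hσ F ht]
  rw [h2, h1]

end fam

/-! ### the eigenfunctional of a functional -/

section pj

variable {l : ℕ}

/-- the functional `x ↦ ∑_{i < d} s ^ i ψ (θ ^ i x)` modulo `N` -/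
def pj (N d : ℕ) (s : ZMod N) (θ : (Fin l → ℤ) → (Fin l → ℤ)) (ψ : (Fin l → ℤ) →+ ℤ) (x : Fin l → ℤ) : ZMod N :=
  ∑ i ∈ Finset.range d, s ^ i * (ψ (θ^[i] x) : ZMod N)

theorem iterate_add (θ : (Fin l → ℤ) ≃+ (Fin l → ℤ)) (i : ℕ) (x y : Fin l → ℤ) :
    (⇑θ)^[i] (x + y) = (⇑θ)^[i] x + (⇑θ)^[i] y := by
  induction i generalizing x y with
  | zero => rfl
  | succ i ih => rw [Function.iterate_succ_apply, map_add, ih]; rfl

theorem pj_add (N d : ℕ) (s : ZMod N) (θ : (Fin l → ℤ) ≃+ (Fin l → ℤ)) (ψ : (Fin l → ℤ) →+ ℤ) (x y : Fin l → ℤ) :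
    pj N d s θ ψ (x + y) = pj N d s θ ψ x + pj N d s θ ψ y := by
  unfold pj
  rw [← Finset.sum_add_distrib]
  refine Finset.sum_congr rfl fun i _ => ?_
  rw [iterate_add, map_add, Int.cast_add, mul_add]

/-- as an additive map -/
def pjHom (N d : ℕ) (s : ZMod N) (θ : (Fin l → ℤ) ≃+ (Fin l → ℤ)) (ψ : (Fin l → ℤ) →+ ℤ) : (Fin l → ℤ) →+ ZMod N :=
  AddMonoidHom.mk' (pj N d s θ ψ) (pj_add N d s θ ψ)

theorem pjHom_apply (N d : ℕ) (s : ZMod N) (θ : (Fin l → ℤ) ≃+ (Fin l → ℤ)) (ψ : (Fin l → ℤ) →+ ℤ) (x : Fin l → ℤ) :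
    pjHom N d s θ ψ x = pj N d s θ ψ x := rfl

/-- the eigenvalue -/
theorem pj_theta {N d : ℕ} {s q : ZMod N} (hsq : q * s = 1) (hsd : s ^ d = 1) {θ : (Fin l → ℤ) → (Fin l → ℤ)}
    (hθ : ∀ x, θ^[d] x = x) (ψ : (Fin l → ℤ) →+ ℤ) (x : Fin l → ℤ) : pj N d s θ ψ (θ x) = q * pj N d s θ ψ x := by
  unfold pj
  have h1 : ∀ i, s ^ i * (ψ (θ^[i] (θ x)) : ZMod N) = q * (s ^ (i + 1) * (ψ (θ^[i + 1] x) : ZMod N)) := by
    intro i
    rw [Function.iterate_succ_apply, pow_succ]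
    linear_combination (-(s ^ i) * (ψ (θ^[i] (θ x)) : ZMod N)) * hsq
  rw [Finset.sum_congr rfl fun i _ => h1 i, ← Finset.mul_sum]
  congr 1
  have h2 := Finset.sum_range_succ (fun i => s ^ i * (ψ (θ^[i] x) : ZMod N)) d
  have h3 := Finset.sum_range_succ' (fun i => s ^ i * (ψ (θ^[i] x) : ZMod N)) d
  rw [h3, hθ, hsd] at h2
  rw [Function.iterate_zero_apply, pow_zero] at h2
  exact add_right_cancel h2

/-- reduction modulo a divisor -/
theorem pj_cast {N n : ℕ} (h : n ∣ N) (d : ℕ) (s : ZMod N) (θ : (Fin l → ℤ) → (Fin l → ℤ)) (ψ : (Fin l → ℤ) →+ ℤ)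
    (x : Fin l → ℤ) : ZMod.castHom h (ZMod n) (pj N d s θ ψ x) = pj n d (ZMod.castHom h (ZMod n) s) θ ψ x := by
  unfold pj
  rw [map_sum]
  refine Finset.sum_congr rfl fun i _ => ?_
  rw [map_mul, map_pow, map_intCast]

/-- the action of an element commuting with `θ` -/
theorem pj_act {N d : ℕ} {s : ZMod N} {θ v : (Fin l → ℤ) → (Fin l → ℤ)} (hv : ∀ x, v (θ x) = θ (v x))
    {ψ ψ' : (Fin l → ℤ) →+ ℤ} (h : ∀ x, ψ' (v x) = ψ x) (x : Fin l → ℤ) : pj N d s θ ψ' (v x) = pj N d s θ ψ x := by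
  have hvi : ∀ (i : ℕ) x, v (θ^[i] x) = θ^[i] (v x) := by
    intro i
    induction i with
    | zero => intro x; rfl
    | succ i ih => intro x; rw [Function.iterate_succ_apply, Function.iterate_succ_apply, ih, hv]
  unfold pj
  refine Finset.sum_congr rfl fun i _ => ?_
  rw [← hvi, h]

end pj

end Cfsg.Agent.H92.NE
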