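import Cfsg.Agent.H92.NE.Untw
import Cfsg.Agent.H994.KE.Base

/-!
# The family of the roots, linear independence by points (S4791 + S4927, helper92)

* `bl Bm y x = ∑ i, ∑ j, x i * Bm i j * y j` as a functional of `x`; `bl_rep` : invariance under the Weyl group for a symmetric `Bm`
  with `2 Bm i j = Bm i i * A i j`; `root_fam` : the family of the functionals of the roots;
* `lam_coef` : an additive map to `ZMod p` is a `lam`; `exists_eig` : the eigenfunctional `pj`;
* `linInd_of_det` : functions are linearly independent if the determinant of their values at points is not zero.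
-/

set_option autoImplicit false
set_option linter.unusedSectionVars false

namespace Cfsg.Agent.H92.NE

open CoxeterSystem Cfsg Cfsg.Lie Cfsg.Lie.ChevalleyDatum
open Cfsg.Agent.ChevalleyStructure Cfsg.Agent.ChevalleyStructure.Elts Cfsg.Agent.ChevalleyStructure.CoxeterGeom
  Cfsg.Agent.ChevalleyStructure.CoxeterGeomTypes Cfsg.Agent.ChevalleyStructure.NPerm
open Cfsg.Agent.Tits.Roots Cfsg.Agent.Tits.Core Cfsg.Agent.Nodes Cfsg.Agent.Nodes.Reps Cfsg.Agent.Nodes.BNOf
  Cfsg.Agent.Nodes.RGDChev Cfsg.Agent.Nodes.Bruhat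
open Cfsg.Agent.H129.TorusChar Cfsg.Agent.H129.WData Cfsg.Agent.H210.EL
open Cfsg.Agent.H603.AP

universe u v

/-! ### the bilinear form -/

/-- the functional `x ↦ ∑ i, ∑ j, x i * Bm i j * y j` -/
def bl {l : ℕ} (Bm : Mat l) (y : Fin l → ℤ) : (Fin l → ℤ) →+ ℤ where
  toFun x := ∑ i, ∑ j, x i * Bm i j * y j
  map_zero' := by simp
  map_add' x x' := by
    rw [← Finset.sum_add_distrib]
    refine Finset.sum_congr rfl fun i _ => ?_
    rw [← Finset.sum_add_distrib]
    refine Finset.sum_congr rfl fun j _ => ?_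
    rw [Pi.add_apply]
    ring

section bl

variable {l : ℕ} {Bm : Mat l}

theorem bl_apply (x y : Fin l → ℤ) : bl Bm y x = ∑ i, ∑ j, x i * Bm i j * y j := rfl

theorem bl_comm (hs : ∀ i j, Bm i j = Bm j i) (x y : Fin l → ℤ) : bl Bm y x = bl Bm x y := by
  rw [bl_apply, bl_apply, Finset.sum_comm]
  refine Finset.sum_congr rfl fun i _ => Finset.sum_congr rfl fun j _ => ?_
  rw [hs j i]
  ring

theorem bl_add_left (hs : ∀ i j, Bm i j = Bm j i) (x y y' : Fin l → ℤ) : bl Bm (y + y') x = bl Bm y x + bl Bm y' x := by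
  rw [bl_comm hs, map_add, bl_comm hs, bl_comm hs x y']

theorem bl_sub_left (hs : ∀ i j, Bm i j = Bm j i) (x y y' : Fin l → ℤ) : bl Bm (y - y') x = bl Bm y x - bl Bm y' x := by
  rw [bl_comm hs, map_sub, bl_comm hs, bl_comm hs x y']

theorem bl_sr (i : Fin l) (y : Fin l → ℤ) : bl Bm y (sr i) = ∑ j, Bm i j * y j := by
  rw [bl_apply, Finset.sum_eq_single i]
  · refine Finset.sum_congr rfl fun j _ => ?_
    rw [sr_self, one_mul]
  · intro j _ hj
    refine Finset.sum_eq_zero fun j' _ => ?_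
    rw [sr_ne hj, zero_mul, zero_mul]
  · intro h
    exact absurd (Finset.mem_univ i) h

theorem bl_sr_sr (i j : Fin l) : bl Bm (sr j) (sr i) = Bm i j := by
  rw [bl_sr, Finset.sum_eq_single j]
  · rw [sr_self, mul_one]
  · intro j' _ hj
    rw [sr_ne hj, mul_zero]
  · intro h
    exact absurd (Finset.mem_univ j) h

variable {D : ChevalleyDatum} {M : CoxeterMatrix (Fin l)} (hp : IsType D l M)

/-- the check for the form -/
def FormOK (D : ChevalleyDatum) (l : ℕ) (Bm : Mat l) : Prop :=
  (∀ i j, Bm i j = Bm j i) ∧ ∀ i j, 2 * Bm i j = Bm i i * cartanOf D l i j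

instance (D : ChevalleyDatum) (l : ℕ) (Bm : Mat l) : Decidable (FormOK D l Bm) := by unfold FormOK; infer_instance

theorem bl_simple (h : FormOK D l Bm) (i : Fin l) (x y : Fin l → ℤ) :
    bl Bm (rep M.toCoxeterSystem hp.isCartan (M.toCoxeterSystem.simple i) y)
      (rep M.toCoxeterSystem hp.isCartan (M.toCoxeterSystem.simple i) x) = bl Bm y x := by
  have key : ∀ z : Fin l → ℤ, 2 * bl Bm z (sr i) = Bm i i * pairing (cartanOf D l) i z := by
    intro z
    rw [bl_sr]
    unfold pairing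
    rw [Finset.mul_sum, Finset.mul_sum]
    refine Finset.sum_congr rfl fun j _ => ?_
    rw [← mul_assoc, h.2 i j, mul_assoc]
  rw [rep_simple_eq, rep_simple_eq, bl_sub_left h.1, map_sub, map_sub, map_zsmul, map_zsmul,
    bl_comm h.1 x (pairing _ i y • sr i), bl_comm h.1 (sr i) (pairing _ i y • sr i), map_zsmul, map_zsmul, bl_sr_sr,
    smul_eq_mul, smul_eq_mul, smul_eq_mul, smul_eq_mul]
  have h1 := key x
  have h2 := key y
  rw [bl_comm h.1] at h1
  rw [bl_comm h.1 (sr i) y] at h2
  rw [bl_comm h.1 (sr i) y, bl_comm h.1 (sr i) x]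
  rw [bl_comm h.1] at h1
  set a := pairing (cartanOf D l) i x
  set b := pairing (cartanOf D l) i y
  have h3 : 2 * (bl Bm y x - a * bl Bm (sr i) y - (b * bl Bm (sr i) x - a * (b * Bm i i))) = 2 * bl Bm y x := by
    rw [bl_comm h.1] at h1
    linear_combination (-a) * h2 - b * h1
  linarith

theorem bl_rep (h : FormOK D l Bm) (v : M.Group) (x y : Fin l → ℤ) :
    bl Bm (rep M.toCoxeterSystem hp.isCartan v y) (rep M.toCoxeterSystem hp.isCartan v x) = bl Bm y x := by
  obtain ⟨L, rfl⟩ := M.toCoxeterSystem.wordProd_surjective v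
  induction L with
  | nil => rw [wordProd_nil, map_one, Module.End.one_apply, Module.End.one_apply]
  | cons i L ih => rw [wordProd_cons, rep_mul_apply, rep_mul_apply, bl_simple hp h, ih]

/-- **The family of the roots.** -/
theorem root_fam (h : FormOK D l Bm) (v : M.Group) : ∃ τ : Equiv.Perm (Fin D.nroots), ∀ j x,
    bl Bm (vec D l (τ j)) (rep M.toCoxeterSystem hp.isCartan v x) = bl Bm (vec D l j) x := by
  obtain ⟨τ, hτ⟩ := Cfsg.Agent.H994.KE.exists_perm hp v
  exact ⟨τ, fun j x => by rw [hτ, bl_rep hp h]⟩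

/-- the square of a root -/
theorem bl_root (h : FormOK D l Bm) {c : ℤ} (hc : ∀ i, Bm i i = c) {a : Fin l → ℤ}
    (ha : IsRoot M.toCoxeterSystem hp.isCartan a) : bl Bm a a = c := by
  obtain ⟨w, i, rfl⟩ := ha
  rw [bl_rep hp h, bl_sr_sr, hc]

end bl

/-! ### functionals -/

section lam

variable {l p : ℕ}

theorem lam_coef (b : (Fin l → ℤ) →+ ZMod p) (x : Fin l → ℤ) : lam (fun i => b (sr i)) x = b x := by
  have h := ext_sr (lamHom fun i => b (sr i)) b (fun i => by
    show lam (fun i => b (sr i)) (sr i) = _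
    rw [lam_sr]) x
  exact h

/-- the eigenfunctional of a functional -/
theorem exists_eig {d : ℕ} {s q : ZMod p} (hqs : q * s = 1) (hsd : s ^ d = 1) {θ : (Fin l → ℤ) ≃+ (Fin l → ℤ)}
    (hθ : ∀ x, (⇑θ)^[d] x = x) (ψ : (Fin l → ℤ) →+ ℤ) :
    ∃ c : Fin l → ZMod p, (∀ x, lam c (θ x) = q * lam c x) ∧ ∀ x, lam c x = pj p d s θ ψ x := by
  refine ⟨fun i => pjHom p d s θ ψ (sr i), fun x => ?_, fun x => lam_coef (pjHom p d s θ ψ) x⟩
  rw [lam_coef, lam_coef]
  exact pj_theta hqs hsd hθ ψ x

end lam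

/-! ### linear independence by points -/

section lin

variable {K X : Type*} [Field K] {n : ℕ}

theorem linInd_of_det {f : Fin n → X → K} {y : Fin n → X} (h : (Matrix.of fun i j => f i (y j)).det ≠ 0) :
    LinearIndependent K f := by
  have h1 := Matrix.linearIndependent_rows_of_det_ne_zero h
  refine LinearIndependent.of_comp (LinearMap.funLeft K K y) ?_
  exact h1

end lin

section smul

variable {p : ℕ} [Fact p.Prime] {G : Type u} [Group G] {P : Sylow p G}

theorem WInv.mul' {f g : LL p P → ZMod p} (hf : WInv P f) (hg : WInv P g) : WInv P (f * g) := by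
  intro n hn l l' h
  rw [Pi.mul_apply, Pi.mul_apply, hf n hn l l' h, hg n hn l l' h]

theorem WInv.smul' {f : LL p P → ZMod p} (hf : WInv P f) (c : ZMod p) : WInv P (c • f) := by
  intro n hn l l' h
  rw [Pi.smul_apply, Pi.smul_apply, hf n hn l l' h]

end smul

end Cfsg.Agent.H92.NE
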