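import Cfsg.Agent.H92.NE.Syl

/-!
# The power sum forms (S4791 + S4927, helper92)

`exists_forms` : `theta = rep w ∘ g` of finite order `d`, `q = r ^ e` with `q ^ d = 1` modulo `p`, no root is trivial on the
`q`-eigenspace `Lam` of functionals modulo `p`: there are an abelian Sylow `p`-subgroup `P` of `G` and points `L x : LL p P` for
`x` in the root lattice such that every finite family `ψ` of functionals permuted by the elements of `W` commuting with `theta`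
and every degree `m` give an invariant form of degree `m` with the value `∑ j, (∑ i < d, q ^ (-i) ψ j (theta ^ i x)) ^ m` at `L x`.
-/

set_option autoImplicit false
set_option linter.unusedSectionVars false

namespace Cfsg.Agent.H92.NE

open CoxeterSystem Cfsg Cfsg.Lie Cfsg.Lie.ChevalleyDatum
open Cfsg.Agent.ChevalleyStructure Cfsg.Agent.ChevalleyStructure.Elts Cfsg.Agent.ChevalleyStructure.CoxeterGeom
  Cfsg.Agent.ChevalleyStructure.CoxeterGeomTypes Cfsg.Agent.ChevalleyStructure.NPerm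
open Cfsg.Agent.Tits.Roots Cfsg.Agent.Tits.Core Cfsg.Agent.Nodes Cfsg.Agent.Nodes.Reps Cfsg.Agent.Nodes.BNOf
  Cfsg.Agent.Nodes.RGDChev Cfsg.Agent.Nodes.Bruhat
open Cfsg.Agent.KFacts.RgdField Cfsg.Agent.KFacts.RgdChevCoord Cfsg.Agent.BpExc.TorCent Cfsg.Agent.BpExc.TorChev
open Cfsg.Agent.GpExc.Field Cfsg.Agent.BpExc.Tow Cfsg.Agent.BpExc.TowChev Cfsg.Agent.BpExc.Fr
  Cfsg.Agent.BpExc.LangFr Cfsg.Agent.H795.SetCent Cfsg.Agent.H795.Toral Cfsg.Agent.H795.Core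
  Cfsg.Agent.H795.RootConn Cfsg.Agent.H795.SetTor Cfsg.Agent.H795.TorSub Cfsg.Agent.H129.TorusChar
  Cfsg.Agent.H129.TorusUntw
  Cfsg.Agent.H129.WData Cfsg.Agent.H795.Reduce Cfsg.Agent.H795.LangT Cfsg.Agent.H123.ExcZ
  Cfsg.Agent.BpExc Cfsg.Agent.H210.EL Cfsg.Agent.H440.TD4
open Cfsg.Agent.H603.AP

universe u v

variable {D : ChevalleyDatum} {l : ℕ} {M : CoxeterMatrix (Fin l)} {hp : IsType D l M}

/-- **The output**: the Sylow subgroup, the points and the power sum forms. -/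
structure Forms {G : Type v} [Group G] (p : ℕ) [Fact p.Prime] (M : CoxeterMatrix (Fin l)) (hp : IsType D l M) (d : ℕ)
    (s : ZMod p) (θ : (Fin l → ℤ) → (Fin l → ℤ)) (P : Sylow p G) (L : (Fin l → ℤ) → LL p P) : Prop where
  ab : ∀ x ∈ P, ∀ y ∈ P, x * y = y * x
  dvd : p ∣ Nat.card G
  form : ∀ {J : Type} [Fintype J] (ψ : J → (Fin l → ℤ) →+ ℤ),
    (∀ v : M.Group, (∀ x, rep M.toCoxeterSystem hp.isCartan v (θ x) = θ (rep M.toCoxeterSystem hp.isCartan v x)) →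
      ∃ τ : Equiv.Perm J, ∀ j x, ψ (τ j) (rep M.toCoxeterSystem hp.isCartan v x) = ψ j x) →
    ∀ m : ℕ, ∃ f ∈ Pol p P m, WInv P f ∧ ∀ x, f (L x) = ∑ j, pj p d s θ (ψ j) x ^ m

theorem Pol_sum {p : ℕ} {A : Type u} [Group A] {m : ℕ} {J : Type} [Fintype J] {f : J → LL p A → ZMod p}
    (h : ∀ j, f j ∈ Pol p A m) : (fun l => ∑ j, f j l) ∈ Pol p A m := by
  have h1 : (fun l => ∑ j, f j l) = ∑ j, f j := by
    funext l
    rw [Finset.sum_apply]
  rw [h1]
  exact Submodule.sum_mem _ fun j _ => h j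

theorem ev_pow_mem {p : ℕ} {A : Type u} [Group A] (x : A) (m : ℕ) : (fun l : LL p A => ev l x ^ m) ∈ Pol p A m := by
  have h1 := Pol_pow (ev_mem (p := p) x) m
  rw [mul_one] at h1
  exact h1

section main

variable {k : Type u} [Field k] [IsAlgClosed k] {r e : ℕ} [hr : Fact r.Prime] [hcr : CharP k r] (hk : LocFin k)
  {σ : MulAut ↥(D.group k)} {g : (Fin l → ℤ) ≃+ (Fin l → ℤ)}
  {G : Type v} [Group G] [Finite G] {p : ℕ} [hpp : Fact p.Prime] {f : G →* ↥(D.group k)}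

include hk in
/-- **The theorem.** -/
theorem exists_forms (hl0 : 0 < l) (hset : Setup hp p r e f σ g) (hpr : p ≠ r) (hW : ¬ p ∣ Nat.card M.Group)
    {dB : ℕ} {B : Fin l → Fin l → ℤ} (hB : InvC D l dB B) (hdB : dB ≠ 0) (w : M.Group) {d : ℕ} (hd : 0 < d)
    (hw : ∀ x, (fun x => rep M.toCoxeterSystem hp.isCartan w (g x))^[d] x = x)
    (hq : ((r ^ e : ℕ) : ZMod p) ^ d = 1) {s : ZMod p} (hs : ((r ^ e : ℕ) : ZMod p) * s = 1)
    (hreg : ∀ a, IsRoot M.toCoxeterSystem hp.isCartan a →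
      ∃ c ∈ Cfsg.Agent.H440.TD4.Lam hp p (r ^ e) g w, lam c a ≠ 0) :
    ∃ (P : Sylow p G) (L : (Fin l → ℤ) → LL p P),
      Forms p M hp d s (fun x => rep M.toCoxeterSystem hp.isCartan w (g x)) P L := by
  classical
  -- the exponent
  have hq1 : 1 < r ^ e := Nat.one_lt_pow hset.e_pos.ne' hr.out.one_lt
  have hpos : 0 < (r ^ e) ^ d - 1 := Nat.sub_pos_of_lt (Nat.one_lt_pow hd.ne' hq1)
  obtain ⟨a, m, hm, ha⟩ := Nat.exists_eq_pow_mul_and_not_dvd hpos.ne' p hpp.out.ne_one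
  have hpdvd : p ∣ (r ^ e) ^ d - 1 := by
    rw [← CharP.cast_eq_zero_iff (ZMod p) p, Nat.cast_sub (Nat.one_le_pow _ _ (by omega)), sub_eq_zero, Nat.cast_one,
      Nat.cast_pow (r ^ e) d]
    exact hq
  have ha1 : a ≠ 0 := by
    rintro rfl
    rw [pow_zero, one_mul] at ha
    exact hm (ha ▸ hpdvd)
  have hdv : p ∣ p ^ a := dvd_pow_self p ha1
  have hqa : ((r ^ e : ℕ) : ZMod (p ^ a)) ^ d = 1 := by
    have h1 : (((r ^ e) ^ d - 1 : ℕ) : ZMod (p ^ a)) = 0 := by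
      rw [ZMod.natCast_eq_zero_iff, ha]
      exact Dvd.intro _ rfl
    rw [Nat.cast_sub (Nat.one_le_pow _ _ (by omega)), sub_eq_zero, Nat.cast_one, Nat.cast_pow (r ^ e) d] at h1
    exact h1
  -- the inverse of `q`
  set q : ZMod (p ^ a) := ((r ^ e : ℕ) : ZMod (p ^ a)) with hqdef
  set sa : ZMod (p ^ a) := q ^ (d - 1) with hsa
  have hqs : q * sa = 1 := by rw [hsa, ← pow_succ', Nat.sub_add_cancel hd, hqa]
  have hsd : sa ^ d = 1 := by rw [hsa, ← pow_mul, mul_comm, pow_mul, hqa, one_pow]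
  have hcast : ZMod.castHom hdv (ZMod p) sa = s := by
    have h1 := congrArg (ZMod.castHom hdv (ZMod p)) hqs
    rw [map_mul, map_one, hqdef, map_natCast] at h1
    have h2 : ((r ^ e : ℕ) : ZMod p) ≠ 0 := fun h => by
      rw [h, zero_mul] at hs
      exact zero_ne_one hs
    exact mul_left_cancel₀ h2 (h1.trans hs.symm)
  -- roots of unity
  have hpk : (p : k) ≠ 0 := by
    intro h
    have h1 := (CharP.cast_eq_zero_iff k r p).1 h
    exact hpr.symm ((Nat.prime_dvd_prime_iff_eq hr.out hpp.out).1 h1)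
  have hpak : ((p ^ a : ℕ) : k) ≠ 0 := by
    rw [Nat.cast_pow]
    exact pow_ne_zero _ hpk
  have : NeZero ((p ^ a : ℕ) : k) := ⟨hpak⟩
  obtain ⟨ζ, hζ⟩ := HasEnoughRootsOfUnity.exists_primitiveRoot k (p ^ a)
  have hζ1 := hζ.pow_eq_one
  have hζinj : ∀ x y : ZMod (p ^ a), ζ ^ x.val = ζ ^ y.val → x = y := fun x y h =>
    ZMod.val_injective _ (hζ.pow_inj (ZMod.val_lt x) (ZMod.val_lt y) h)
  -- the frame
  have H := tow hp M.toCoxeterSystem hk r
  obtain ⟨nw, hnw⟩ := exists_rp M.toCoxeterSystem H.nsys w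
  obtain ⟨u, hu⟩ := lang_all hp M.toCoxeterSystem hset.e_pos hset.frob hset.fr 1 nw
  have hu' : nw = u⁻¹ * σ u := by
    rw [map_one, one_mul] at hu
    exact hu
  set θ : (Fin l → ℤ) ≃+ (Fin l → ℤ) := g.trans (repAut M.toCoxeterSystem hp.isCartan w) with hθdef
  have hθ1 : ∀ x, θ x = rep M.toCoxeterSystem hp.isCartan w (g x) := fun x => rfl
  have hθfun : (fun x => rep M.toCoxeterSystem hp.isCartan w (g x)) = ⇑θ := rfl
  rw [hθfun] at hw ⊢
  have F1 : Fr M.toCoxeterSystem hp.isCartan (TT D k) (XX D l k) (ct σ u) θ := by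
    have h1 := Fr.conj H (by rw [hu'] at hnw; exact hnw : Rp M.toCoxeterSystem H.nsys w (u⁻¹ * σ u))
    rw [TL_eq hp hk, XL_eq hp hk] at h1
    exact h1.mul hset.fr
  have hσ1 : IsFrob r e (ct σ u) := hset.frob.conj_mul _
  -- the family
  have hfam : ∀ b : Rt hp, ∃ t ∈ TP hp p (ct σ u), cX hp t b.1 ≠ 1 := by
    rintro ⟨b, hb⟩
    obtain ⟨c, hc, hcb⟩ := hreg b hb
    -- the functional `p ^ (a - 1) c`
    have hζp : (ζ ^ p ^ (a - 1)) ^ p = 1 := by
      rw [← pow_mul, ← pow_succ, Nat.sub_add_cancel (Nat.one_le_iff_ne_zero.2 ha1), hζ1]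
    have hη : IsPrimitiveRoot (ζ ^ p ^ (a - 1)) p := by
      refine hζ.pow (pow_pos hpp.out.pos _) ?_
      rw [← pow_succ, Nat.sub_add_cancel (Nat.one_le_iff_ne_zero.2 ha1)]
    obtain ⟨t, ht, hX⟩ := exists_elt hp (k := k) hB hdB (N := p) hζp (lamHom c)
    refine ⟨t, ⟨ht, ?_, 1, ?_⟩, ?_⟩
    · refine cX_inj hp ((F1.tor t).2 ht) ht fun i => ?_
      obtain ⟨y, hy⟩ := θ.surjective (sr i)
      rw [← hy, cX_sigma hp M.toCoxeterSystem hσ1 F1 ht, hX, hX]
      have h1 : lamHom c (θ y) = ((r ^ e : ℕ) : ZMod p) * lamHom c y := hc y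
      rw [h1, pow_cast' hζp]
    · refine cX_inj hp (pow_mem ht _) (one_mem _) fun i => ?_
      rw [cX_pow hp ht, cX_one, hX, ← pow_mul, mul_comm, pow_mul, pow_one, hζp, one_pow]
    · rw [hX]
      intro h1
      apply hcb
      have h2 : (ζ ^ p ^ (a - 1)) ^ (lam c b).val = (ζ ^ p ^ (a - 1)) ^ 0 := by
        rw [pow_zero]
        exact h1
      have h3 := hη.pow_inj (ZMod.val_lt _) hpp.out.pos h2
      exact (ZMod.val_eq_zero _).1 h3
  choose fam hfamT hfamX using hfam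
  obtain ⟨P, hP⟩ := exists_sylow hk hset hpr hW hfamT hfamX
  -- logarithms
  have hTPpow : ∀ t ∈ TP hp p (ct σ u), t ^ p ^ a = 1 := fun t ht => TP_pow hp hpp.out hσ1 F1 hw ha hm ht
  have hmemP : ∀ x : G, x ∈ P ↔ u⁻¹ * f x * u ∈ TP hp p (ct σ u) := by
    intro x
    rw [← mem_P0, ← hP]
    exact Iff.rfl
  have hlog : ∀ y : P, ∃ b : (Fin l → ℤ) →+ ZMod (p ^ a), ∀ x, cX hp (u⁻¹ * f y * u) x = ζ ^ (b x).val := by
    intro y
    have h1 := (hmemP y).1 y.2
    exact exists_log hp hζ h1.1 (hTPpow _ h1)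
  choose lg hlg using hlog
  have hlg_mul : ∀ (y z : P) x, lg (y * z) x = lg y x + lg z x := by
    intro y z x
    apply hζinj
    rw [pow_add' hζ1, ← hlg, ← hlg, ← hlg, ← cX_mul hp ((hmemP y).1 y.2).1 ((hmemP z).1 z.2).1]
    congr 1
    rw [Subgroup.coe_mul, map_mul]
    group
  -- the points
  let L : (Fin l → ℤ) → LL p P := fun x =>
    MonoidHom.mk' (fun y => Multiplicative.ofAdd (ZMod.castHom hdv (ZMod p) (lg y x))) fun y z => by
      rw [← ofAdd_add, hlg_mul, map_add]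
  have hL : ∀ x (y : P), ev (L x) y = ZMod.castHom hdv (ZMod p) (lg y x) := fun x y => rfl
  -- the elements of functionals
  have helt : ∀ ψ : (Fin l → ℤ) →+ ℤ, ∃ y : P, ∀ x, lg y x = pj (p ^ a) d sa θ ψ x := by
    intro ψ
    obtain ⟨t, ht, hX⟩ := exists_elt hp (k := k) hB hdB (N := p ^ a) hζ1 (pjHom (p ^ a) d sa θ ψ)
    have htP : t ∈ TP hp p (ct σ u) :=
      mem_TP_of_eig hp hσ1 F1 hζ1 (fun x => pj_theta hqs hsd hw ψ x) ht hX
    obtain ⟨y, hy, hyt⟩ := exists_pre hset htP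
    refine ⟨⟨y, by rw [← hP] at hy; exact hy⟩, fun x => hζinj _ _ ?_⟩
    rw [← hlg]
    show cX hp (u⁻¹ * f y * u) x = _
    have h1 : u⁻¹ * f y * u = t := by rw [hyt]; group
    rw [h1, hX]
    rfl
  choose el hel using helt
  refine ⟨P, L, ⟨?_, ?_, ?_⟩⟩
  · intro x hx y hy
    have hx' : x ∈ P0 hp p σ f u := by rw [← hP]; exact hx
    have hy' : y ∈ P0 hp p σ f u := by rw [← hP]; exact hy
    exact P0_comm hset hx' hy'
  · -- `p` divides the order
    obtain ⟨b⟩ : Nonempty (Rt hp) := ⟨⟨sr ⟨0, hl0⟩, isRoot_sr _ _ _⟩⟩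
    obtain ⟨y, hy, hyt⟩ := exists_pre hset (hfamT b)
    have hyP : y ∈ P := by rw [← hP] at hy; exact hy
    have hy1 : y ≠ 1 := by
      rintro rfl
      rw [map_one] at hyt
      have h1 : fam b = 1 := by
        have h2 : u * fam b * u⁻¹ = 1 := hyt.symm
        rwa [conj_eq_one_iff] at h2
      exact hfamX b (by rw [h1, cX_one])
    obtain ⟨j, hj⟩ := P.2 ⟨y, hyP⟩
    have hj' : y ^ p ^ j = 1 := congrArg Subtype.val hj
    obtain ⟨i, -, hi⟩ := (Nat.dvd_prime_pow hpp.out).1 (orderOf_dvd_of_pow_eq_one hj')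
    have hi0 : i ≠ 0 := by
      rintro rfl
      rw [pow_zero, orderOf_eq_one_iff] at hi
      exact hy1 hi
    exact (dvd_pow_self p hi0).trans (hi ▸ orderOf_dvd_natCard y)
  · -- the forms
    intro J _ ψ hψ m'
    refine ⟨fun l => ∑ j, ev l (el (ψ j)) ^ m', Pol_sum fun j => ev_pow_mem _ _, ?_, ?_⟩
    · intro n hn l1 l2 hl
      have hn' : ∀ x ∈ P0 hp p σ f u, n * x * n⁻¹ ∈ P0 hp p σ f u := by
        intro x hx
        rw [← hP] at hx ⊢
        exact (Subgroup.mem_normalizer_iff.1 hn x).1 hx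
      obtain ⟨v, hv, hvT⟩ := exists_weyl_norm hk hset hB hdB hσ1 F1 hfamT hfamX hn'
      obtain ⟨τ, hτ⟩ := hψ v hv
      have key : ∀ j, n * (el (ψ j) : G) * n⁻¹ = (el (ψ (τ j)) : G) := by
        intro j
        apply hset.inj
        have h1 := (hmemP _).1 (el (ψ j)).2
        have h2 := (hmemP _).1 (el (ψ (τ j))).2
        obtain ⟨h3, h4⟩ := hvT _ h1
        have h5 : u⁻¹ * f n * u * (u⁻¹ * f (el (ψ j)) * u) * (u⁻¹ * f n * u)⁻¹ = u⁻¹ * f (el (ψ (τ j))) * u := by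
          refine cX_inj hp h3.1 h2.1 fun i => ?_
          obtain ⟨y, hy⟩ := (repAut M.toCoxeterSystem hp.isCartan v).surjective (sr i)
          have hy' : rep M.toCoxeterSystem hp.isCartan v y = sr i := hy
          rw [← hy', h4, hlg, hlg, hel, hel]
          rw [pj_act (v := fun x => rep M.toCoxeterSystem hp.isCartan v x) (fun x => hv x) (fun x => hτ j x)]
        rw [map_mul, map_mul, map_inv]
        calc f n * f (el (ψ j)) * (f n)⁻¹ =
            u * (u⁻¹ * f n * u * (u⁻¹ * f (el (ψ j)) * u) * (u⁻¹ * f n * u)⁻¹) * u⁻¹ := by group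
          _ = u * (u⁻¹ * f (el (ψ (τ j))) * u) * u⁻¹ := by rw [h5]
          _ = _ := by group
      show ∑ j, ev l2 (el (ψ j)) ^ m' = ∑ j, ev l1 (el (ψ j)) ^ m'
      rw [← Equiv.sum_comp τ fun j => ev l2 (el (ψ j)) ^ m']
      exact Finset.sum_congr rfl fun j _ => by rw [hl _ _ (key j)]
    · intro x
      show ∑ j, ev (L x) (el (ψ j)) ^ m' = _
      refine Finset.sum_congr rfl fun j _ => ?_
      rw [hL, hel, pj_cast, hcast]

end main

end Cfsg.Agent.H92.NE
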