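import Cfsg.Agent.H92.NE.Eng

/-!
# The Sylow subgroup of a torus and the power sum forms: the theorem (S4791 + S4927, helper92)

`exists_forms`.
-/

set_option autoImplicit false
set_option linter.unusedSectionVars false

namespace Cfsg.Agent.H92.NE

open CoxeterSystem Cfsg Cfsg.Lie Cfsg.Lie.ChevalleyDatum
open Cfsg.Agent.ChevalleyStructure Cfsg.Agent.ChevalleyStructure.Elts Cfsg.Agent.ChevalleyStructure.CoxeterGeom
  Cfsg.Agent.ChevalleyStructure.CoxeterGeomTypes Cfsg.Agent.ChevalleyStructure.NPerm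
open Cfsg.Agent.Tits.Roots Cfsg.Agent.Tits.Core Cfsg.Agent.Nodes Cfsg.Agent.Nodes.Reps Cfsg.Agent.Nodes.BNOf
  Cfsg.Agent.Nodes.RGDChev Cfsg.Agent.Nodes.Bruhat
open Cfsg.Agent.KFacts.RgdField Cfsg.Agent.KFacts.RgdChevCoord Cfsg.Agent.BpExc.TorCent Cfsg.Agent.BpExc.TorChev
open Cfsg.Agent.GpExc.Field Cfsg.Agent.BpExc.Tow Cfsg.Agent.BpExc.TowChev Cfsg.Agent.BpExc.Fr
  Cfsg.Agent.BpExc.LangFr Cfsg.Agent.H795.SetCent Cfsg.Agent.H795.Toral Cfsg.Agent.H795.Core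
  Cfsg.Agent.H795.RootConn Cfsg.Agent.H795.SetTor Cfsg.Agent.H795.TorSub Cfsg.Agent.H129.TorusChar
  Cfsg.Agent.H129.TorusUntw
  Cfsg.Agent.H129.WData Cfsg.Agent.H795.Reduce Cfsg.Agent.H795.LangT Cfsg.Agent.H123.ExcZ
  Cfsg.Agent.BpExc Cfsg.Agent.H210.EL Cfsg.Agent.H440.TD4
open Cfsg.Agent.H603.AP

universe u v

section tor

variable {D : ChevalleyDatum} {l : ℕ} {M : CoxeterMatrix (Fin l)} (hp : IsType D l M)
  {k : Type u} [Field k]

/-- the `p`-elements of the torus fixed by `σ` -/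
def TP (hp : IsType D l M) (p : ℕ) (σ : MulAut ↥(D.group k)) : Subgroup ↥(D.group k) where
  carrier := {t | t ∈ TT D k ∧ σ t = t ∧ ∃ j : ℕ, t ^ p ^ j = 1}
  one_mem' := ⟨one_mem _, map_one σ, 0, one_pow _⟩
  mul_mem' := by
    rintro a b ⟨ha, hσa, i, hi⟩ ⟨hb, hσb, j, hj⟩
    refine ⟨mul_mem ha hb, by rw [map_mul, hσa, hσb], i + j, ?_⟩
    rw [(show Commute a b from TT_comm hp a ha b hb).mul_pow, pow_add, pow_mul, hi, one_pow, one_mul, mul_comm,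
      pow_mul, hj, one_pow]
  inv_mem' := by
    rintro a ⟨ha, hσa, i, hi⟩
    exact ⟨inv_mem ha, by rw [map_inv, hσa], i, by rw [inv_pow, hi, inv_one]⟩

theorem mem_TP {p : ℕ} {σ : MulAut ↥(D.group k)} {t : ↥(D.group k)} :
    t ∈ TP hp p σ ↔ t ∈ TT D k ∧ σ t = t ∧ ∃ j : ℕ, t ^ p ^ j = 1 := Iff.rfl

variable [IsAlgClosed k] {r e : ℕ} [hr : Fact r.Prime] [hcr : CharP k r]
  {σ : MulAut ↥(D.group k)} {θ : (Fin l → ℤ) ≃+ (Fin l → ℤ)}

theorem cX_iter (hσ : IsFrob r e σ) (F : Fr M.toCoxeterSystem hp.isCartan (TT D k) (XX D l k) σ θ)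
    {t : ↥(D.group k)} (ht : t ∈ TT D k) (hfix : σ t = t) (i : ℕ) (x : Fin l → ℤ) :
    cX hp t (θ^[i] x) = cX hp t x ^ (r ^ e) ^ i := by
  induction i with
  | zero => rw [Function.iterate_zero_apply, pow_zero, pow_one]
  | succ i ih =>
    have h1 := cX_sigma hp M.toCoxeterSystem hσ F ht (θ^[i] x)
    rw [hfix, ih, ← pow_mul, ← pow_succ] at h1
    rw [Function.iterate_succ_apply', h1]

/-- the exponent -/
theorem TP_pow {p : ℕ} (hpp : p.Prime) (hσ : IsFrob r e σ)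
    (F : Fr M.toCoxeterSystem hp.isCartan (TT D k) (XX D l k) σ θ)
    {d : ℕ} (hθ : ∀ x, (⇑θ)^[d] x = x) {a m : ℕ} (ha : (r ^ e) ^ d - 1 = p ^ a * m) (hm : ¬ p ∣ m)
    {t : ↥(D.group k)} (ht : t ∈ TP hp p σ) : t ^ p ^ a = 1 := by
  obtain ⟨htT, hfix, j, hj⟩ := ht
  have h1 : t ^ ((r ^ e) ^ d - 1) = 1 := by
    refine cX_inj hp (pow_mem htT _) (one_mem _) fun i => ?_
    rw [cX_pow hp htT, cX_one]
    have h2 := cX_iter hp hσ F htT hfix d (sr i)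
    rw [hθ] at h2
    have h3 : (r ^ e) ^ d = ((r ^ e) ^ d - 1) + 1 :=
      (Nat.sub_add_cancel (Nat.one_le_pow _ _ (pow_pos hr.out.pos e))).symm
    rw [h3, pow_succ] at h2
    exact (mul_eq_right₀ ((isMC_cX hp htT).ne_zero _)).1 h2.symm
  rw [ha] at h1
  have h2 := orderOf_dvd_of_pow_eq_one h1
  have h3 := orderOf_dvd_of_pow_eq_one hj
  have h4 : Nat.Coprime (orderOf t) m :=
    Nat.Coprime.coprime_dvd_left h3 (Nat.Coprime.pow_left _ ((Nat.Prime.coprime_iff_not_dvd hpp).2 hm))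
  exact orderOf_dvd_iff_pow_eq_one.1 (h4.dvd_of_dvd_mul_right h2)

omit [IsAlgClosed k] hr hcr in
/-- the logarithm of an element of the torus -/
theorem exists_log {N : ℕ} [NeZero N] {ζ : k} (hζ : IsPrimitiveRoot ζ N) {t : ↥(D.group k)} (ht : t ∈ TT D k)
    (htN : t ^ N = 1) : ∃ b : (Fin l → ℤ) →+ ZMod N, ∀ x, cX hp t x = ζ ^ (b x).val := by
  have h1 : ∀ x, ∃ c : ZMod N, ζ ^ c.val = cX hp t x := by
    intro x
    have h2 : cX hp t x ^ N = 1 := by rw [← cX_pow hp ht, htN, cX_one]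
    obtain ⟨i, hi, hi'⟩ := hζ.eq_pow_of_pow_eq_one h2
    exact ⟨(i : ZMod N), by rw [ZMod.val_natCast, Nat.mod_eq_of_lt hi, hi']⟩
  choose c hc using h1
  have hinj : ∀ a b : ZMod N, ζ ^ a.val = ζ ^ b.val → a = b := fun a b h =>
    ZMod.val_injective N (hζ.pow_inj (ZMod.val_lt a) (ZMod.val_lt b) h)
  refine ⟨AddMonoidHom.mk' c fun x y => hinj _ _ ?_, fun x => (hc x).symm⟩
  rw [pow_add' hζ.pow_eq_one, hc, hc, hc]
  exact (isMC_cX hp ht).add x y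

/-- the element of a functional -/
theorem exists_elt {dB : ℕ} {B : Fin l → Fin l → ℤ} (hB : InvC D l dB B) (hdB : dB ≠ 0) {N : ℕ} [NeZero N]
    {ζ : k} (hζ : ζ ^ N = 1) (b : (Fin l → ℤ) →+ ZMod N) : ∃ t ∈ TT D k, ∀ x, cX hp t x = ζ ^ (b x).val :=
  exists_cX hp hB hdB (isMC_chn hζ b) fun _ => IsAlgClosed.exists_pow_nat_eq _ (Nat.pos_of_ne_zero hdB)

/-- the elements of eigenfunctionals are in `TP` -/
theorem mem_TP_of_eig {p a : ℕ} [hpp : Fact p.Prime] (hσ : IsFrob r e σ)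
    (F : Fr M.toCoxeterSystem hp.isCartan (TT D k) (XX D l k) σ θ) {ζ : k} (hζ : ζ ^ p ^ a = 1)
    {b : (Fin l → ℤ) →+ ZMod (p ^ a)} (hb : ∀ x, b (θ x) = ((r ^ e : ℕ) : ZMod (p ^ a)) * b x)
    {t : ↥(D.group k)} (ht : t ∈ TT D k) (hX : ∀ x, cX hp t x = ζ ^ (b x).val) : t ∈ TP hp p σ := by
  refine ⟨ht, ?_, a, ?_⟩
  · refine cX_inj hp ((F.tor t).2 ht) ht fun i => ?_
    obtain ⟨y, hy⟩ := θ.surjective (sr i)
    rw [← hy, cX_sigma hp M.toCoxeterSystem hσ F ht, hX, hX, hb, pow_cast' hζ]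
  · refine cX_inj hp (pow_mem ht _) (one_mem _) fun i => ?_
    rw [cX_pow hp ht, cX_one, hX, ← pow_mul, mul_comm, pow_mul, hζ, one_pow]

end tor

/-! ### the group -/

section grp

variable {D : ChevalleyDatum} {l : ℕ} {M : CoxeterMatrix (Fin l)} {hp : IsType D l M}
  {k : Type u} [Field k] [IsAlgClosed k] {r e : ℕ} [hr : Fact r.Prime] [hcr : CharP k r] (hk : LocFin k)
  {σ : MulAut ↥(D.group k)} {g θ : (Fin l → ℤ) ≃+ (Fin l → ℤ)}
  {G : Type v} [Group G] [Finite G] {p : ℕ} [hpp : Fact p.Prime] {f : G →* ↥(D.group k)}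
  (hset : Setup hp p r e f σ g)

/-- the subgroup -/
def P0 (hp : IsType D l M) (p : ℕ) (σ : MulAut ↥(D.group k)) (f : G →* ↥(D.group k)) (u : ↥(D.group k)) : Subgroup G :=
  (TP hp p (ct σ u)).comap ((MulAut.conj u⁻¹).toMonoidHom.comp f)

theorem mem_P0 {u : ↥(D.group k)} {x : G} : x ∈ P0 hp p σ f u ↔ u⁻¹ * f x * u ∈ TP hp p (ct σ u) := by
  unfold P0
  rw [Subgroup.mem_comap]
  show u⁻¹ * f x * u⁻¹⁻¹ ∈ _ ↔ _
  rw [inv_inv]

include hset in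
/-- the elements of `TP` come from the group -/
theorem exists_pre {u t : ↥(D.group k)} (ht : t ∈ TP hp p (ct σ u)) : ∃ x ∈ P0 hp p σ f u, f x = u * t * u⁻¹ := by
  obtain ⟨h1, h2, j, hj⟩ := ht
  obtain ⟨x, hx⟩ := hset.p_mem (u * t * u⁻¹) (ct_fix.1 h2) ⟨j, by rw [conj_pow, hj, mul_one, mul_inv_cancel]⟩
  refine ⟨x, mem_P0.2 ?_, hx⟩
  have h3 : u⁻¹ * f x * u = t := by rw [hx]; group
  rw [h3]
  exact ⟨h1, h2, j, hj⟩

include hset in
theorem isPGroup_P0 {u : ↥(D.group k)} : IsPGroup p ↥(P0 hp p σ f u) := by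
  rintro ⟨x, hx⟩
  obtain ⟨-, -, j, hj⟩ := mem_P0.1 hx
  refine ⟨j, Subtype.ext ?_⟩
  change x ^ p ^ j = 1
  apply hset.inj
  rw [map_pow, map_one]
  have h1 : u⁻¹ * f x * u = u⁻¹ * f x * u⁻¹⁻¹ := by rw [inv_inv]
  rw [h1, conj_pow, inv_inv] at hj
  calc f x ^ p ^ j = u * (u⁻¹ * f x ^ p ^ j * u) * u⁻¹ := by group
    _ = 1 := by rw [hj]; group

include hset in
theorem P0_comm {u : ↥(D.group k)} {x y : G} (hx : x ∈ P0 hp p σ f u) (hy : y ∈ P0 hp p σ f u) : x * y = y * x := by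
  apply hset.inj
  have h1 := TT_comm hp _ (mem_P0.1 hx).1 _ (mem_P0.1 hy).1
  rw [map_mul, map_mul]
  calc f x * f y = u * ((u⁻¹ * f x * u) * (u⁻¹ * f y * u)) * u⁻¹ := by group
    _ = u * ((u⁻¹ * f y * u) * (u⁻¹ * f x * u)) * u⁻¹ := by rw [h1]
    _ = _ := by group

include hk hset in
/-- **The subgroup is a Sylow subgroup.** -/
theorem exists_sylow (hpr : p ≠ r) (hW : ¬ p ∣ Nat.card M.Group) {u : ↥(D.group k)} {s : Rt hp → ↥(D.group k)}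
    (hs : ∀ a, s a ∈ TP hp p (ct σ u)) (hsu : ∀ a, cX hp (s a) a.1 ≠ 1) :
    ∃ P : Sylow p G, (P : Subgroup G) = P0 hp p σ f u := by
  classical
  obtain ⟨P, hP⟩ := IsPGroup.exists_le_sylow (isPGroup_P0 hset (u := u))
  refine ⟨P, le_antisymm ?_ hP⟩
  -- `P` is commutative
  have hcomm : ∀ x ∈ P, ∀ y ∈ P, x * y = y * x := by
    have hQ : IsPGroup p ↥((P : Subgroup G).map f) := P.2.map f
    have hfin : Finite ↥((P : Subgroup G).map f) :=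
      Finite.of_surjective (fun v : ↥(P : Subgroup G) => (⟨f v, ⟨v, v.2, rfl⟩⟩ : ↥((P : Subgroup G).map f))) (by
        rintro ⟨_, ⟨v, hv, rfl⟩⟩
        exact ⟨⟨v, hv⟩, rfl⟩)
    obtain ⟨z, hz⟩ := exists_toral_of_not_dvd hp r hk hpp.out hpr hW hQ
    intro x hx y hy
    have h1 := TT_comm hp _ (hz (f x) ⟨x, hx, rfl⟩) _ (hz (f y) ⟨y, hy, rfl⟩)
    apply hset.inj
    rw [map_mul, map_mul]
    calc f x * f y = z⁻¹ * ((z * f x * z⁻¹) * (z * f y * z⁻¹)) * z := by group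
      _ = z⁻¹ * ((z * f y * z⁻¹) * (z * f x * z⁻¹)) * z := by rw [h1]
      _ = _ := by group
  intro y hy
  rw [mem_P0]
  have h1 : u⁻¹ * f y * u ∈ TT D k := by
    refine mem_of_comm hp (r := r) hk hpp.out hW (s := s) (fun a => (hs a).1) (fun a => (hs a).2.2) hsu fun a => ?_
    obtain ⟨x, hx, hxs⟩ := exists_pre hset (hs a)
    have h2 := congrArg f (hcomm y hy x (hP hx))
    rw [map_mul, map_mul, hxs] at h2
    calc u⁻¹ * f y * u * s a = u⁻¹ * (f y * (u * s a * u⁻¹)) * u := by group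
      _ = u⁻¹ * (u * s a * u⁻¹ * f y) * u := by rw [h2]
      _ = _ := by group
  refine ⟨h1, ?_, ?_⟩
  · rw [ct_fix]
    have h2 : u * (u⁻¹ * f y * u) * u⁻¹ = f y := by group
    rw [h2, hset.fix]
  · obtain ⟨j, hj⟩ := P.2 ⟨y, hy⟩
    have hj' : y ^ p ^ j = 1 := congrArg Subtype.val hj
    refine ⟨j, ?_⟩
    have h2 : u⁻¹ * f y * u = u⁻¹ * f y * u⁻¹⁻¹ := by rw [inv_inv]
    rw [h2, conj_pow, ← map_pow, hj', map_one]
    group

include hk hset in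
/-- **The normalizer acts as elements of the Weyl group commuting with `θ`.** -/
theorem exists_weyl_norm {dB : ℕ} {B : Fin l → Fin l → ℤ} (hB : InvC D l dB B) (hdB : dB ≠ 0)
    {u : ↥(D.group k)} (hσ1 : IsFrob r e (ct σ u))
    (F1 : Fr M.toCoxeterSystem hp.isCartan (TT D k) (XX D l k) (ct σ u) θ)
    {s : Rt hp → ↥(D.group k)} (hs : ∀ a, s a ∈ TP hp p (ct σ u)) (hsu : ∀ a, cX hp (s a) a.1 ≠ 1) {n : G}
    (hn : ∀ x ∈ P0 hp p σ f u, n * x * n⁻¹ ∈ P0 hp p σ f u) :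
    ∃ w : M.Group, (∀ x, rep M.toCoxeterSystem hp.isCartan w (θ x) = θ (rep M.toCoxeterSystem hp.isCartan w x)) ∧
      ∀ t ∈ TP hp p (ct σ u), u⁻¹ * f n * u * t * (u⁻¹ * f n * u)⁻¹ ∈ TP hp p (ct σ u) ∧
        ∀ x, cX hp (u⁻¹ * f n * u * t * (u⁻¹ * f n * u)⁻¹) (rep M.toCoxeterSystem hp.isCartan w x) = cX hp t x := by
  have h1 : ∀ t ∈ TP hp p (ct σ u), u⁻¹ * f n * u * t * (u⁻¹ * f n * u)⁻¹ ∈ TP hp p (ct σ u) := by
    intro t ht
    obtain ⟨x, hx, hxt⟩ := exists_pre hset ht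
    have h2 := mem_P0.1 (hn x hx)
    rw [map_mul, map_mul, map_inv, hxt] at h2
    have h3 : u⁻¹ * (f n * (u * t * u⁻¹) * (f n)⁻¹) * u = u⁻¹ * f n * u * t * (u⁻¹ * f n * u)⁻¹ := by group
    rwa [h3] at h2
  obtain ⟨w, hw⟩ := rp_of_conj hp (r := r) hk (s := s) (fun a => (hs a).1) hsu (c := u⁻¹ * f n * u)
    (fun a => (h1 _ (hs a)).1)
  have hfix : ct σ u (u⁻¹ * f n * u) = u⁻¹ * f n * u := by
    rw [ct_fix]
    have h2 : u * (u⁻¹ * f n * u) * u⁻¹ = f n := by group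
    rw [h2, hset.fix]
  exact ⟨w, comm_of_fixed hp hk hB hdB hσ1 F1 hw hfix, fun t ht => ⟨h1 t ht, fun x => cX_rp' hp hk hw ht.1 x⟩⟩

end grp

end Cfsg.Agent.H92.NE
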