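import Cfsg.Agent.H92.NE.Form

/-!
# The power sum forms for the untwisted groups (S4791 + S4927, helper92)

* `Setup.comp` : transport of `H795.Core.Setup` along an isomorphism;
* `forms_untw` : `exists_forms` for a group isomorphic to `D.group F`.
-/

set_option autoImplicit false
set_option linter.unusedSectionVars false

namespace Cfsg.Agent.H92.NE

open CoxeterSystem Cfsg Cfsg.Lie Cfsg.Lie.ChevalleyDatum
open Cfsg.Agent.ChevalleyStructure Cfsg.Agent.ChevalleyStructure.Elts Cfsg.Agent.ChevalleyStructure.CoxeterGeom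
  Cfsg.Agent.ChevalleyStructure.CoxeterGeomTypes Cfsg.Agent.ChevalleyStructure.NPerm
open Cfsg.Agent.Tits.Roots Cfsg.Agent.Tits.Core Cfsg.Agent.Nodes Cfsg.Agent.Nodes.Reps Cfsg.Agent.Nodes.BNOf
  Cfsg.Agent.Nodes.RGDChev Cfsg.Agent.Nodes.Bruhat
open Cfsg.Agent.KFacts.RgdField Cfsg.Agent.KFacts.RgdChevCoord Cfsg.Agent.BpExc.TorCent Cfsg.Agent.BpExc.TorChev
open Cfsg.Agent.GpExc.Field Cfsg.Agent.BpExc.Tow Cfsg.Agent.BpExc.TowChev Cfsg.Agent.BpExc.Fr
  Cfsg.Agent.BpExc.LangFr Cfsg.Agent.H795.SetCent Cfsg.Agent.H795.Toral Cfsg.Agent.H795.Core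
  Cfsg.Agent.H795.RootConn Cfsg.Agent.H795.SetTor Cfsg.Agent.H795.TorSub Cfsg.Agent.H795.Untw Cfsg.Agent.H129.TorusChar
  Cfsg.Agent.H129.TorusUntw
  Cfsg.Agent.H129.WData Cfsg.Agent.H795.Reduce Cfsg.Agent.H795.LangT Cfsg.Agent.H123.ExcZ
  Cfsg.Agent.BpExc Cfsg.Agent.H210.EL Cfsg.Agent.H440.TD4
open Cfsg.Agent.H603.AP

universe u v

variable {D : ChevalleyDatum} {l : ℕ} {M : CoxeterMatrix (Fin l)} (hp : IsType D l M)

/-- transport along an isomorphism -/
theorem setup_comp {k : Type u} [Field k] {r : ℕ} [Fact r.Prime] [CharP k r] {p e : ℕ} {G : Type*} [Group G]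
    {S : Type*} [Group S] {f : G →* ↥(D.group k)} {σ : MulAut ↥(D.group k)} {g : (Fin l → ℤ) ≃+ (Fin l → ℤ)}
    (h : Setup hp p r e f σ g) (i : S ≃* G) : Setup hp p r e (f.comp i.toMonoidHom) σ g where
  inj := h.inj.comp i.injective
  e_pos := h.e_pos
  frob := h.frob
  fr := h.fr
  fix x := h.fix (i x)
  norm y hy x := by
    obtain ⟨x', hx'⟩ := h.norm y hy (i x)
    exact ⟨i.symm x', by
      show f (i (i.symm x')) = y * f (i x) * y⁻¹
      rw [i.apply_symm_apply, hx']⟩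
  p_mem y hy hj := by
    obtain ⟨x, hx⟩ := h.p_mem y hy hj
    exact ⟨i.symm x, by
      show f (i (i.symm x)) = y
      rw [i.apply_symm_apply, hx]⟩
  r_mem y hy hj := by
    obtain ⟨x, hx⟩ := h.r_mem y hy hj
    exact ⟨i.symm x, by
      show f (i (i.symm x)) = y
      rw [i.apply_symm_apply, hx]⟩
  fin := h.fin

/-- **The untwisted groups.** -/
theorem forms_untw (hl0 : 0 < l) {F : Type u} [Field F] [Fintype F] {S : Type v} [Group S] [Finite S]
    (i : S ≃* ↥(D.group F)) {p : ℕ} [hpp : Fact p.Prime] (hpF : (p : F) ≠ 0) (hW : ¬ p ∣ Nat.card M.Group)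
    {dB : ℕ} {B : Fin l → Fin l → ℤ} (hB : InvC D l dB B) (hdB : dB ≠ 0) (hdB1 : dB = 1 ∨ dB.Prime) (hpd : ¬ p ∣ dB)
    (w : M.Group) {d : ℕ} (hd : 0 < d)
    (hw : ∀ x, (fun x => rep M.toCoxeterSystem hp.isCartan w x)^[d] x = x)
    (hq : (Fintype.card F : ZMod p) ^ d = 1) {s : ZMod p} (hs : (Fintype.card F : ZMod p) * s = 1)
    (hreg : ∀ a, IsRoot M.toCoxeterSystem hp.isCartan a →
      ∃ c : Fin l → ZMod p, (∀ x, lam c (rep M.toCoxeterSystem hp.isCartan w x) = (Fintype.card F : ZMod p) * lam c x) ∧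
        lam c a ≠ 0) :
    ∃ (P : Sylow p S) (L : (Fin l → ℤ) → LL p P),
      Forms p M hp d s (fun x => rep M.toCoxeterSystem hp.isCartan w x) P L := by
  obtain ⟨r, e, hr, hrF, hrk, he, hq', hk⟩ := exists_closure (F := F) rfl
  have hpr : p ≠ r := by
    rintro rfl
    exact hpF (CharP.cast_eq_zero F p)
  have hset := setup_comp hp (setup_untw hp hk (algebraMap F (AlgebraicClosure F)) he hq' hB hdB
    hdB1 hpd) i
  rw [hq'] at hq hs
  refine exists_forms (hp := hp) hk hl0 hset hpr hW hB hdB w hd hw hq hs fun a ha => ?_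
  obtain ⟨c, hc, hca⟩ := hreg a ha
  refine ⟨c, fun x => ?_, hca⟩
  have h1 := hc x
  rw [hq'] at h1
  exact h1

end Cfsg.Agent.H92.NE
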